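import Groth.Agent.NeronMdl58.AbSchFib
import Groth.Agent.S2347
import Groth.Agent.H23.RedSub
import Groth.Agent.WeilExt.Extend
import Groth.Agent.Lib.AVDual
import Mathlib.AlgebraicGeometry.ZariskisMainTheorem

/-!
# Rational sections of abelian schemes over regular bases extend
-/

set_option autoImplicit false
set_option linter.style.haveILetI false
set_option linter.unusedSectionVars false

universe u

open CategoryTheory CategoryTheory.Limits MonoidalCategory CartesianMonoidalCategory MonObj AlgebraicGeometry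
  TopologicalSpace

namespace Groth.Agent.NeronMdl58.AbSch

theorem geometricallyIntegral_of_connected {S : Scheme.{u}} (A : Over S) [GrpObj A] [IsProper A.hom] [Smooth A.hom]
    (hconn : ∀ (L : Type u) [Field L] (t : Spec (CommRingCat.of L) ⟶ S), ConnectedSpace ↑(pullback A.hom t)) :
    GeometricallyIntegral A.hom := by
  haveI : GeometricallyConnected A.hom := by
    refine ⟨fun K _ t Z fst snd h => ?_⟩
    haveI := hconn K t
    exact (Scheme.Hom.homeomorph h.isoPullback.inv).surjective.connectedSpace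
      (Scheme.Hom.homeomorph h.isoPullback.inv).continuous
  refine ⟨fun K _ t Z fst snd h => ?_⟩
  let B := (Over.pullback t).obj A
  letI : GrpObj B := Functor.grpObjObj
  haveI : IsProper B.hom := inferInstanceAs (IsProper (pullback.snd A.hom t))
  haveI : Smooth B.hom := inferInstanceAs (Smooth (pullback.snd A.hom t))
  haveI : GeometricallyConnected B.hom := inferInstanceAs (GeometricallyConnected (pullback.snd A.hom t))
  haveI := AVDual.geometricallyIntegral_of_smooth B
  haveI : IsIntegral (pullback A.hom t) := GeometricallyIntegral.isIntegral_of_subsingleton B.hom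
  haveI : Nonempty Z := (inferInstance : Nonempty ↥(pullback A.hom t)).map h.isoPullback.inv
  exact isIntegral_of_isOpenImmersion h.isoPullback.hom

/-- A section over a dense open of an affine integral regular scheme extends. -/
theorem exists_extension_affine {Y : Scheme.{u}} [IsAffine Y] [IsLocallyNoetherian Y] [IsIntegral Y]
    (hY : ∀ y : Y, IsRegularLocalRing (Y.presheaf.stalk y))
    (A : Over Y) [GrpObj A] [IsProper A.hom] [Smooth A.hom] [GeometricallyIntegral A.hom]
    (V : Y.Opens) [Nonempty V] (σ : (Over.mk V.ι : Over Y) ⟶ A) :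
    ∃ g : Y ⟶ A.left, g ≫ A.hom = 𝟙 Y ∧ V.ι ≫ g = σ.left := by
  haveI : IsLocallyNoetherian A.left := LocallyOfFiniteType.isLocallyNoetherian A.hom
  let C : Set A.left := closure (Set.range σ.left)
  obtain ⟨Z, j, hj, hZred, hZr⟩ := H23.RedSub.exists_reduced_subscheme A.left
    (isClosed_closure (s := Set.range σ.left)).isLocallyClosed
  haveI : IsClosedImmersion j := .of_isPreimmersion j (by rw [hZr]; exact isClosed_closure)
  haveI : IsReduced V.toScheme := isReduced_of_isOpenImmersion V.ι
  haveI : IsIntegral V.toScheme := isIntegral_of_isOpenImmersion V.ι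
  haveI : IsIntegral (Over.mk V.ι : Over Y).left := ‹IsIntegral V.toScheme›
  haveI : IrreducibleSpace Z := by
    have h1 : IsIrreducible C := by
      refine IsIrreducible.closure ?_
      rw [← Set.image_univ]
      exact (IrreducibleSpace.isIrreducible_univ _).image _ σ.left.continuous.continuousOn
    haveI : IrreducibleSpace ↥(Set.range j) := by
      rw [show Set.range j = C from hZr]
      exact Subtype.irreducibleSpace h1
    exact j.isClosedEmbedding.isEmbedding.toHomeomorph.symm.surjective.irreducibleSpace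
      j.isClosedEmbedding.isEmbedding.toHomeomorph.symm.continuous
  haveI : IsReduced Z := hZred
  haveI : IsIntegral Z := isIntegral_of_irreducibleSpace_of_isReduced _
  let p := j ≫ A.hom
  haveI : IsProper p := inferInstanceAs (IsProper (j ≫ A.hom))
  haveI : LocallyQuasiFinite p := LocallyQuasiFinite.of_finite_preimage_singleton p fun y => by
    refine ((finite_closure_inter_fibre hY V σ y).preimage j.isClosedEmbedding.injective.injOn).subset fun z hz => ?_
    exact ⟨show j z ∈ C by rw [show C = Set.range j from hZr.symm]; exact ⟨z, rfl⟩, hz⟩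
  haveI : IsFinite p := IsFinite.of_isProper_of_locallyQuasiFinite p
  obtain ⟨s, hs⟩ := H23.RedSub.exists_lift_closed σ.left j (by rw [hZr]; exact subset_closure)
  have hsp : s ≫ p = V.ι := by rw [← Category.assoc, hs]; exact Over.w σ
  haveI : IsIso p := Groth.Agent.S2347.result (WeilExt.isNormalScheme hY (𝟙 Y)) p V
    (V.isOpen.dense ⟨_, (Classical.arbitrary V).2⟩) s hsp
  refine ⟨inv p ≫ j, by rw [Category.assoc]; exact IsIso.inv_hom_id p, ?_⟩
  refine (congrArg (· ≫ inv p ≫ j) hsp.symm).trans ?_
  rw [Category.assoc, IsIso.hom_inv_id_assoc, hs]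

/-- An abelian scheme over a regular base has the extension property for maps from smooth schemes. -/
theorem bijective_restrict {S : Scheme.{u}} [IsLocallyNoetherian S]
    (hreg : ∀ s : S, IsRegularLocalRing (S.presheaf.stalk s)) (U : S.Opens) (hU : Dense (U : Set S))
    (A : Over S) [GrpObj A] [IsProper A.hom] [Smooth A.hom] [GeometricallyIntegral A.hom]
    (Y : Over S) [Smooth Y.hom] :
    Function.Bijective (fun f : Y ⟶ A => (Over.pullback U.ι).map f) := by
  haveI : IsLocallyNoetherian Y.left := LocallyOfFiniteType.isLocallyNoetherian Y.hom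
  have hYreg := WeilExt.isRegularLocalRing_stalk hreg Y.hom
  have hdom : ∀ y : Y.left, IsDomain (Y.left.presheaf.stalk y) := fun y => by
    haveI := hYreg y
    exact (Groth.Agent.S2821.result (Y.left.presheaf.stalk y)).1
  haveI : ∀ y : Y.left, _root_.IsReduced (Y.left.presheaf.stalk y) := fun y => by
    haveI := hdom y
    infer_instance
  haveI : IsReduced Y.left := isReduced_of_isReduced_stalk Y.left
  let p : pullback Y.hom U.ι ⟶ Y.left := pullback.fst Y.hom U.ι
  have hd : Dense ((p.opensRange : Y.left.Opens) : Set Y.left) := by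
    show Dense (Set.range p)
    rw [Scheme.Pullback.range_fst, Scheme.Opens.range_ι]
    exact hU.preimage Y.hom.isOpenMap
  haveI : IsDominant p := ⟨hd⟩
  constructor
  · intro f₁ f₂ h
    have h' := congrArg (fun k => Over.Hom.left k ≫ pullback.fst A.hom U.ι) h
    replace h' : p ≫ f₁.left = p ≫ f₂.left :=
      (pullback.lift_fst _ _ _).symm.trans (h'.trans (pullback.lift_fst _ _ _))
    exact Over.OverMorphism.ext
      (ext_of_isDominant_of_isSeparated A.hom ((Over.w f₁).trans (Over.w f₂).symm) p h')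
  intro h
  let f0 := h.left ≫ pullback.fst A.hom U.ι
  have hw : h.left ≫ pullback.snd A.hom U.ι = pullback.snd Y.hom U.ι := Over.w h
  have hf0 : f0 ≫ A.hom = p ≫ Y.hom := by
    rw [Category.assoc, pullback.condition, ← Category.assoc, hw]
    exact pullback.condition.symm
  let U' := p.opensRange
  let f : U'.toScheme ⟶ A.left := p.isoOpensRange.inv ≫ f0
  have hf : f ≫ A.hom = U'.ι ≫ Y.hom := by
    rw [Category.assoc, hf0, Scheme.Hom.isoOpensRange_inv_comp_assoc]
  have key : ∀ x : Y.left, ∃ (W : Y.left.Opens) (g : W.toScheme ⟶ A.left), x ∈ W ∧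
      g ≫ A.hom = W.ι ≫ Y.hom ∧
      ∀ {P : Scheme.{u}} (a : P ⟶ W.toScheme) (b : P ⟶ U'.toScheme), a ≫ W.ι = b ≫ U'.ι → a ≫ g = b ≫ f := by
    intro x
    obtain ⟨C, hxC, hC, -⟩ := WeilExt.exists_integral_component hdom x
    obtain ⟨W, hW, hxW, hWC⟩ := exists_isAffineOpen_mem_and_subset (x := x) (U := C) hxC
    haveI := hC
    haveI : Nonempty W := ⟨⟨x, hxW⟩⟩
    haveI : IsIntegral W.toScheme := isIntegral_of_isOpenImmersion (Y.left.homOfLE hWC)
    haveI : IsAffine W.toScheme := hW
    haveI : IsLocallyNoetherian W.toScheme := isLocallyNoetherian_of_isOpenImmersion W.ι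
    let c := W.ι ≫ Y.hom
    let A' := (Over.pullback c).obj A
    letI : GrpObj A' := Functor.grpObjObj
    haveI : IsProper A'.hom := inferInstanceAs (IsProper (pullback.snd A.hom c))
    haveI : Smooth A'.hom := inferInstanceAs (Smooth (pullback.snd A.hom c))
    haveI : GeometricallyIntegral A'.hom := inferInstanceAs (GeometricallyIntegral (pullback.snd A.hom c))
    let V : W.toScheme.Opens := W.ι ⁻¹ᵁ U'
    haveI : Nonempty V := by
      obtain ⟨z, hzU, hzW⟩ := hd.exists_mem_open W.isOpen ⟨x, hxW⟩
      exact ⟨⟨⟨z, hzW⟩, hzU⟩⟩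
    let l : V.toScheme ⟶ U'.toScheme := IsOpenImmersion.lift U'.ι (V.ι ≫ W.ι) (by
      rw [Scheme.Opens.range_ι]; rintro _ ⟨v, rfl⟩; exact v.2)
    have hl : l ≫ U'.ι = V.ι ≫ W.ι := IsOpenImmersion.lift_fac _ _ _
    let σ : (Over.mk V.ι : Over W.toScheme) ⟶ A' := Over.homMk (pullback.lift (l ≫ f) V.ι (by
      rw [Category.assoc, hf, reassoc_of% hl])) (pullback.lift_snd _ _ _)
    obtain ⟨g, hg, hgV⟩ := exists_extension_affine (WeilExt.isRegularLocalRing_stalk hYreg W.ι) A' V σ
    refine ⟨W, g ≫ pullback.fst A.hom c, hxW, ?_, fun {P} a b hab => ?_⟩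
    · have hg' : g ≫ pullback.snd A.hom c = 𝟙 _ := hg
      rw [Category.assoc, pullback.condition, reassoc_of% hg']
    · let a' : P ⟶ V.toScheme := IsOpenImmersion.lift V.ι a (by
        rw [Scheme.Opens.range_ι]
        rintro _ ⟨q, rfl⟩
        show W.ι (a q) ∈ U'
        rw [← Scheme.Hom.comp_apply, hab]
        exact (b q).2)
      have ha' : a' ≫ V.ι = a := IsOpenImmersion.lift_fac _ _ _
      have hb : a' ≫ l = b := by
        rw [← cancel_mono U'.ι, Category.assoc, hl, reassoc_of% ha', hab]
      rw [← ha', Category.assoc, reassoc_of% hgV]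
      show a' ≫ pullback.lift (l ≫ f) V.ι _ ≫ pullback.fst A.hom c = b ≫ f
      rw [pullback.lift_fst, ← hb, Category.assoc]
  choose W g hxW hg hgf using key
  obtain ⟨G, hG, hGg⟩ := WeilExt.glue_extensions Y.hom A.hom f hd W g hg hgf
  have htop : (⊤ : Y.left.Opens) ≤ ⨆ x, W x := fun x _ => Opens.mem_iSup.2 ⟨x, hxW x⟩
  let gl : Y.left ⟶ A.left := Y.left.topIso.inv ≫ Y.left.homOfLE htop ≫ G
  have hgl : ∀ x, (W x).ι ≫ gl = g x := fun x => by
    rw [← hGg x]
    simp only [gl, ← Category.assoc]
    congr 1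
    rw [← cancel_mono (⨆ x, W x).ι]
    simp only [Category.assoc, Scheme.homOfLE_ι]
    exact (congrArg ((W x).ι ≫ ·) Y.left.topIso.inv_hom_id).trans (Category.comp_id _)
  have hglw : gl ≫ A.hom = Y.hom := by
    simp only [gl, Category.assoc, hG, Scheme.homOfLE_ι_assoc]
    exact Y.left.topIso.inv_hom_id_assoc Y.hom
  refine ⟨Over.homMk gl hglw, Over.OverMorphism.ext (pullback.hom_ext ?_ ?_)⟩
  · refine (pullback.lift_fst _ _ _).trans (?_ : p ≫ gl = f0)
    rw [← Scheme.Hom.isoOpensRange_hom_ι p, Category.assoc]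
    have hU'gl : U'.ι ≫ gl = f := by
      refine Scheme.hom_ext_of_forall _ _ fun u => ⟨U'.ι ⁻¹ᵁ W (U'.ι u), hxW _, ?_⟩
      let a := U'.ι.resLE (W (U'.ι u)) _ le_rfl
      have ha : a ≫ (W (U'.ι u)).ι = (U'.ι ⁻¹ᵁ W (U'.ι u)).ι ≫ U'.ι := Scheme.Hom.resLE_comp_ι _ _
      rw [← Category.assoc, ← ha, Category.assoc, hgl, hgf _ a _ ha]
    rw [hU'gl, Iso.hom_inv_id_assoc]
  · exact (pullback.lift_snd _ _ _).trans hw.symm

end Groth.Agent.NeronMdl58.AbSch
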