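import Groth.Agent.S0234
import Groth.Agent.S8914
import Groth.Agent.S2821
import Groth.Agent.S4991
import Groth.Agent.S12002
import Groth.Agent.S18372
import Groth.Agent.Lib.EffCompl
import Groth.Agent.Lib.AVAmple
import Groth.Agent.Lib.AVPair
import Groth.Agent.H23.SeesawGlobal
import Mathlib.CategoryTheory.Monoidal.Cartesian.Over
import Mathlib.AlgebraicGeometry.Geometrically.Integral

/-!
# Closures of rational sections of abelian schemes over regular bases have finite fibres
-/

set_option autoImplicit false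
set_option backward.isDefEq.respectTransparency false
set_option backward.isDefEq.respectTransparency.types false
set_option linter.style.haveILetI false
set_option linter.unusedSectionVars false
set_option maxHeartbeats 800000

universe u

open CategoryTheory CategoryTheory.Limits MonoidalCategory CartesianMonoidalCategory MonObj GrpObj AlgebraicGeometry
  TopologicalSpace

namespace Groth.Agent.NeronMdl58.AbSch

open Groth.Agent.H23 Groth.Agent.H23.TrivBasic
open scoped Groth.Agent.H23.PicMul

section Theta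

variable {S U : Scheme.{u}} (g : U ⟶ S) {H : Over S} {T : Over U}

/-- A point of the base change, read as a point over the old base. -/
noncomputable def theta (a : T ⟶ (Over.pullback g).obj H) : (Over.map g).obj T ⟶ H :=
  ((Over.mapPullbackAdj g).homEquiv T H).symm a

theorem theta_left (a : T ⟶ (Over.pullback g).obj H) : (theta g a).left = a.left ≫ pullback.fst _ _ := rfl

theorem theta_comp {T' : Over U} (h : T' ⟶ T) (a : T ⟶ (Over.pullback g).obj H) :
    theta g (h ≫ a) = (Over.map g).map h ≫ theta g a :=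
  (Over.mapPullbackAdj g).homEquiv_naturality_left_symm h a

variable [GrpObj H]

theorem theta_mul (a b : T ⟶ (Over.pullback g).obj H) :
    letI : GrpObj ((Over.pullback g).obj H) := Functor.grpObjObj
    theta g (a * b) = theta g a * theta g b := by
  apply ((Over.mapPullbackAdj g).homEquiv T H).injective
  rw [theta, Equiv.apply_symm_apply, Adjunction.homEquiv_unit, Functor.map_mul, MonObj.comp_mul,
    ← Adjunction.homEquiv_unit, ← Adjunction.homEquiv_unit, theta, theta, Equiv.apply_symm_apply,
    Equiv.apply_symm_apply]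

theorem theta_one :
    letI : GrpObj ((Over.pullback g).obj H) := Functor.grpObjObj
    theta g (1 : T ⟶ (Over.pullback g).obj H) = 1 := by
  letI : GrpObj ((Over.pullback g).obj H) := Functor.grpObjObj
  have h := theta_mul g (1 : T ⟶ (Over.pullback g).obj H) 1
  rw [_root_.one_mul] at h
  exact (mul_eq_left (a := theta g (1 : T ⟶ (Over.pullback g).obj H))).1 h.symm

end Theta

theorem pull_pull {X Z W : Scheme.{u}} (f : X ⟶ Z) (g : Z ⟶ W) (c : PicF.Cl W) :
    PicMul.pullHom f (PicMul.pullHom g c) = PicMul.pullHom (f ≫ g) c :=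
  PicClLib.pullCl_comp f g c

variable {Y : Scheme.{u}} [IsAffine Y] [IsLocallyNoetherian Y] [IsIntegral Y]
  {A : Over Y} [GrpObj A] [IsProper A.hom] [Smooth A.hom] [GeometricallyIntegral A.hom]

theorem isRegularLocalRing_stalk (hY : ∀ y : Y, IsRegularLocalRing (Y.presheaf.stalk y)) (x : A.left) :
    IsRegularLocalRing (A.left.presheaf.stalk x) :=
  (Groth.Agent.S4991.result A.hom x ⟨⊤, trivial, inferInstance⟩).2 (hY _)

/-- An effective divisor on an abelian scheme whose complement is an affine neighbourhood of a point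
of the unit section, with the invertible module and the section defining it. -/
theorem exists_divisor (hY : ∀ y : Y, IsRegularLocalRing (Y.presheaf.stalk y)) (y : Y) :
    ∃ (L : A.left.Modules) (W : A.left.Opens) (s : Γ(L, ⊤)), PicF.IsInvertible L ∧ IsAffineOpen W ∧
      (η[A]).left y ∈ W ∧ locus s = W := by
  haveI : IsLocallyNoetherian A.left := LocallyOfFiniteType.isLocallyNoetherian A.hom
  haveI : IsIntegral A.left := GeometricallyIntegral.isIntegral_of_isLocallyNoetherian A.hom
  haveI : A.left.IsSeparated := by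
    haveI : IsSeparated (A.hom ≫ terminal.from Y) := inferInstance
    exact ⟨by rw [show terminal.from A.left = A.hom ≫ terminal.from Y from (terminal.comp_from A.hom).symm]; infer_instance⟩
  obtain ⟨W, hW, hyW, -⟩ := exists_isAffineOpen_mem_and_subset (x := (η[A]).left y) (U := ⊤) trivial
  obtain ⟨D, hD, hDs⟩ := EffCompl.exists_effCartier_compl A.left (fun V V' h h' => h.inf h') W hW
    (W.isOpen.dense ⟨_, hyW⟩) fun x _ => by
      haveI := isRegularLocalRing_stalk hY x
      exact Groth.Agent.S2821.result (A.left.presheaf.stalk x)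
  obtain ⟨L, hL, hLI⟩ := PicInv.exists_inverse ((Groth.Agent.S8914.result D).2 hD)
  have hLI' : ClSub.IsInverseOf L (ClSub.idealMod D) := by
    obtain ⟨e⟩ := hLI
    obtain ⟨c⟩ := PicMul.comm L (ClSub.idealMod D)
    exact ⟨c ≪≫ e⟩
  obtain ⟨s, hs⟩ := AVAmple.exists_divisor_section D hD hL hLI'
  refine ⟨L, W, s, hL, hW, hyW, ?_⟩
  refine Opens.ext (Set.ext fun x => ?_)
  have h := Set.ext_iff.1 hDs x
  simp only [SetLike.mem_coe, Set.mem_compl_iff] at h
  rw [SetLike.mem_coe, SetLike.mem_coe, hs, h, not_not]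

/-- The translate of a line bundle by a section over an open extends to the whole scheme. -/
theorem exists_extension (hY : ∀ y : Y, IsRegularLocalRing (Y.presheaf.stalk y)) {L : A.left.Modules}
    (hL : PicF.IsInvertible L) (V : Y.Opens) (σ : (Over.mk V.ι : Over Y) ⟶ A) :
    ∃ m : PicF.Cl A.left, PicF.IsInvertibleCl m ∧
      PicMul.pullHom (fst A (Over.mk V.ι)).left m =
        PicMul.pullHom (fst A (Over.mk V.ι) * (snd A (Over.mk V.ι) ≫ σ)).left (PicF.cl L) := by
  haveI : IsLocallyNoetherian A.left := LocallyOfFiniteType.isLocallyNoetherian A.hom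
  let j := (fst A (Over.mk V.ι)).left
  haveI : IsOpenImmersion j := inferInstanceAs (IsOpenImmersion (pullback.fst A.hom V.ι))
  let τ := (fst A (Over.mk V.ι) * (snd A (Over.mk V.ι) ≫ σ)).left
  let e := j.isoOpensRange
  let L₀ := (Scheme.Modules.pullback (e.inv ≫ τ)).obj L
  obtain ⟨M, hM, ⟨φ⟩⟩ := Groth.Agent.S0234.result A.left j.opensRange L₀ (PicClLib.isInvertible_pullback _ hL)
    fun x _ => by
      haveI := isRegularLocalRing_stalk hY x
      exact (Groth.Agent.S2821.result (A.left.presheaf.stalk x)).2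
  refine ⟨PicF.cl M, ⟨M, rfl, hM⟩, ?_⟩
  have h1 : PicMul.pullHom j.opensRange.ι (PicF.cl M) = PicMul.pullHom (e.inv ≫ τ) (PicF.cl L) :=
    PicMul.cl_eq_iff.2 ⟨((Scheme.Modules.restrictFunctorIsoPullback j.opensRange.ι).app M).symm ≪≫ φ⟩
  have h2 := congrArg (PicMul.pullHom e.hom) h1
  rw [pull_pull, pull_pull, Iso.hom_inv_id_assoc, Scheme.Hom.isoOpensRange_hom_ι] at h2
  exact h2

/-- The finitely many translations carrying one line bundle to another, over an algebraically closed field. -/
theorem finite_translations {Ω : Type u} [Field Ω] [IsAlgClosed Ω] {B : Over (Spec (CommRingCat.of Ω))}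
    [GrpObj B] [IsProper B.hom] [Smooth B.hom] [GeometricallyIntegral B.hom] {L : B.left.Modules}
    (hL : PicF.IsInvertible L) {W : B.left.Opens} (hW : IsAffineOpen W)
    (he : Set.range (η[B]).left ⊆ (W : Set B.left)) {s : Γ(L, ⊤)} (hs : locus s = W) (m : PicF.Cl B.left) :
    Set.Finite {b : 𝟙_ (Over (Spec (CommRingCat.of Ω))) ⟶ B |
      PicMul.pullHom (AVAmple.tr b).left (PicF.cl L) = m} := by
  haveI : GeometricallyConnected B.hom := CubeAb.geometricallyConnected_of_integral B.hom
  haveI : IsCommMonObj B := isCommMonObj_of_isProper_of_geometricallyIntegral B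
  have hs0 : s ≠ 0 := fun h0 => by
    have hη : (η[B]).left (IsLocalRing.closedPoint Ω) ∈ locus s := hs ▸ he ⟨_, rfl⟩
    obtain ⟨U, hU, hf⟩ := mem_locus_iff.1 hη
    rw [h0, map_zero] at hf
    have h01 := hf.coord_unique le_rfl (r := (0 : Γ(B.left, U))) (r' := 1) (by simp)
    haveI : Nonempty U := ⟨⟨_, hU⟩⟩
    exact zero_ne_one h01
  have hamp : CohB1.IsAmple L := by
    refine AVAmple.isAmple_of_finite_stabilizer hL hs0
      ((Groth.Agent.S18372.result Ω B W hW he).subset fun a ha => ?_)
    rw [hs] at ha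
    show (AVAmple.tr a).left.base ⁻¹' ((W : Set B.left)ᶜ) = (W : Set B.left)ᶜ
    rw [Set.preimage_compl]
    exact congrArg (fun V : B.left.Opens => (V : Set B.left)ᶜ) ha
  have hK := Groth.Agent.S12002.result Ω B L hamp
  rcases Set.eq_empty_or_nonempty {b : 𝟙_ (Over (Spec (CommRingCat.of Ω))) ⟶ B |
      PicMul.pullHom (AVAmple.tr b).left (PicF.cl L) = m} with h | ⟨b₀, hb₀⟩
  · rw [h]; exact Set.finite_empty
  refine (hK.image fun c => b₀ * c).subset fun b hb => ⟨b₀⁻¹ * b, ?_, mul_inv_cancel_left _ _⟩
  refine PicMul.cl_eq_iff.1 ?_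
  have e := congrArg (PicMul.pullHom (AVAmple.tr b₀⁻¹).left) ((hb : _ = m).trans (hb₀ : _ = m).symm)
  rw [pull_pull, pull_pull, ← Over.comp_left, ← Over.comp_left, AVAmple.tr_tr, AVAmple.tr_tr, inv_mul_cancel,
    AVAmple.tr_one, Over.id_left, show PicMul.pullHom (𝟙 B.left) (PicF.cl L) = PicF.cl L from AVPair.pl_id _] at e
  exact e

/-- The comparison of translates of `l` with a fixed class, on `A × A`. -/
theorem exists_compare {L : A.left.Modules} (hL : PicF.IsInvertible L) {n : PicF.Cl A.left}
    (hn : PicF.IsInvertibleCl n) :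
    ∃ M : (A ⊗ A).left.Modules, PicF.IsInvertible M ∧ ∀ {T : Over Y} (e : T ⟶ A ⊗ A),
      PicMul.pullHom e.left (PicF.cl M) =
        PicMul.pullHom ((e ≫ fst A A) * (e ≫ snd A A)).left (PicF.cl L) * PicMul.pullHom (e ≫ fst A A).left n := by
  let μA : A ⊗ A ⟶ A := fst A A * snd A A
  obtain ⟨N, rfl, hN⟩ := hn
  obtain ⟨M, hM_eq, hM⟩ : PicF.IsInvertibleCl
      (PicMul.pullHom μA.left (PicF.cl L) * PicMul.pullHom (fst A A).left (PicF.cl N)) :=
    PicMul.isInvertibleCl_mul ⟨_, rfl, PicClLib.isInvertible_pullback μA.left hL⟩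
      ⟨_, rfl, PicClLib.isInvertible_pullback (fst A A).left hN⟩
  refine ⟨M, hM, fun {T} e => ?_⟩
  rw [hM_eq, map_mul, pull_pull, pull_pull, ← Over.comp_left, ← Over.comp_left, MonObj.comp_mul]

/-- A section over an open lies in the locus where the translate is the fixed class. -/
theorem fieldTriv_section {L : A.left.Modules} {M : (A ⊗ A).left.Modules}
    (hM : PicF.IsInvertible M) {m n : PicF.Cl A.left} (hmn : m * n = 1)
    (hcl : ∀ {T : Over Y} (e : T ⟶ A ⊗ A), PicMul.pullHom e.left (PicF.cl M) =
        PicMul.pullHom ((e ≫ fst A A) * (e ≫ snd A A)).left (PicF.cl L) * PicMul.pullHom (e ≫ fst A A).left n)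
    (V : Y.Opens) (σ : (Over.mk V.ι : Over Y) ⟶ A)
    (hm' : PicMul.pullHom (fst A (Over.mk V.ι)).left m =
        PicMul.pullHom (fst A (Over.mk V.ι) * (snd A (Over.mk V.ι) ≫ σ)).left (PicF.cl L))
    (v : V.toScheme) : SeesawGlobal.FieldTriv (snd A A).left M (σ.left v) := by
  haveI : IsLocallyNoetherian A.left := LocallyOfFiniteType.isLocallyNoetherian A.hom
  let f := (snd A A).left
  haveI : IsProper f := inferInstanceAs (IsProper (pullback.snd A.hom A.hom))
  haveI : Flat f := inferInstanceAs (Flat (pullback.snd A.hom A.hom))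
  haveI : GeometricallyIntegral f := inferInstanceAs (GeometricallyIntegral (pullback.snd A.hom A.hom))
  let Vo : Over Y := Over.mk V.ι
  let i : Spec (CommRingCat.of (V.toScheme.residueField v)) ⟶ V.toScheme := V.toScheme.fromSpecResidueField v
  let k : Spec (CommRingCat.of (V.toScheme.residueField v)) ⟶ A.left := i ≫ σ.left
  have hk : k (IsLocalRing.closedPoint (V.toScheme.residueField v)) = σ.left v :=
    congrArg σ.left (V.toScheme.fromSpecResidueField_apply v _)
  refine SeesawGlobal.fieldTriv_of_point f hM (V.toScheme.residueField v) k hk ?_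
  let e : A ⊗ Vo ⟶ A ⊗ A := lift (fst A Vo) (snd A Vo ≫ σ)
  have hT : Triv ((Scheme.Modules.pullback e.left).obj M) := by
    refine PicMul.cl_eq_iff.1 (?_ : PicMul.pullHom e.left (PicF.cl M) = 1)
    rw [hcl, lift_fst, lift_snd, ← hm', ← map_mul, hmn, map_one]
  have w1 : pullback.fst f k ≫ f = pullback.snd f k ≫ i ≫ σ.left := pullback.condition
  have hA2 : (fst A A).left ≫ A.hom = f ≫ A.hom := (Over.w (fst A A)).trans (Over.w (snd A A)).symm
  have hσw : σ.left ≫ A.hom = V.ι := Over.w σ
  let t : pullback f k ⟶ (A ⊗ Vo).left :=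
    pullback.lift (pullback.fst f k ≫ (fst A A).left) (pullback.snd f k ≫ i) (by
      rw [Category.assoc, hA2, reassoc_of% w1, hσw, Category.assoc]
      rfl)
  refine SeesawGlobal.triv_of_factor t ?_ hT
  apply pullback.hom_ext
  · show (t ≫ e.left) ≫ (fst A A).left = pullback.fst f k ≫ (fst A A).left
    rw [Category.assoc, ← Over.comp_left, lift_fst]
    exact pullback.lift_fst _ _ _
  · show (t ≫ e.left) ≫ (snd A A).left = pullback.fst f k ≫ (snd A A).left
    rw [Category.assoc, ← Over.comp_left, lift_snd, Over.comp_left, ← Category.assoc,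
      show t ≫ (snd A Vo).left = pullback.snd f k ≫ i from pullback.lift_snd _ _ _, Category.assoc]
    exact w1.symm

section Geometric

variable {Ω : Type u} [Field Ω] [IsAlgClosed Ω] (g : Spec (CommRingCat.of Ω) ⟶ Y)

theorem translate_eq {L : A.left.Modules} {M : (A ⊗ A).left.Modules} {m n : PicF.Cl A.left} (hmn : m * n = 1)
    (hcl : ∀ {T : Over Y} (e : T ⟶ A ⊗ A), PicMul.pullHom e.left (PicF.cl M) =
        PicMul.pullHom ((e ≫ fst A A) * (e ≫ snd A A)).left (PicF.cl L) * PicMul.pullHom (e ≫ fst A A).left n) :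
    letI : GrpObj ((Over.pullback g).obj A) := Functor.grpObjObj
    ∀ b : 𝟙_ (Over (Spec (CommRingCat.of Ω))) ⟶ (Over.pullback g).obj A,
      SeesawGlobal.FieldTriv (snd A A).left M (pullback.fst A.hom g (AVAmple.pt b)) →
      PicMul.pullHom (AVAmple.tr b).left (PicMul.pullHom (pullback.fst A.hom g) (PicF.cl L)) =
        PicMul.pullHom (pullback.fst A.hom g) m := by
  letI : GrpObj ((Over.pullback g).obj A) := Functor.grpObjObj
  intro b hb
  let B := (Over.pullback g).obj A
  let pr : B.left ⟶ A.left := pullback.fst A.hom g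
  let k := (theta g b).left
  let e : (Over.map g).obj B ⟶ A ⊗ A := lift (theta g (𝟙 B)) ((Over.map g).map (toUnit B) ≫ theta g b)
  have h1 : (e ≫ fst A A) * (e ≫ snd A A) = theta g (AVAmple.tr b) := by
    rw [lift_fst, lift_snd, ← theta_comp, ← theta_mul]
  have hfst : (e ≫ fst A A).left = pr := by
    rw [lift_fst, theta_left]
    exact Category.id_comp _
  have hs : e.left ≫ (snd A A).left = B.hom ≫ k := by
    rw [← Over.comp_left, lift_snd]
    rfl
  have hT : Triv ((Scheme.Modules.pullback e.left).obj M) :=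
    SeesawGlobal.triv_of_factor (pullback.lift e.left B.hom hs) (pullback.lift_fst _ _ _) (hb Ω k rfl)
  have h2 : PicMul.pullHom e.left (PicF.cl M) = 1 := PicMul.cl_eq_iff.2 hT
  rw [hcl, h1, hfst, theta_left] at h2
  have he : PicMul.pullHom pr m * PicMul.pullHom pr n = 1 := by rw [← map_mul, hmn, map_one]
  exact AVPair.eq_of_mul_inv he
    ((congrArg (· * PicMul.pullHom pr n) (pull_pull (AVAmple.tr b).left pr (PicF.cl L))).trans h2)

theorem eta_mem {W : A.left.Opens} (hW : ∀ w, (η[A]).left (g w) ∈ W) :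
    letI : GrpObj ((Over.pullback g).obj A) := Functor.grpObjObj
    Set.range (η[(Over.pullback g).obj A]).left ⊆ pullback.fst A.hom g ⁻¹' (W : Set A.left) := by
  letI : GrpObj ((Over.pullback g).obj A) := Functor.grpObjObj
  rintro _ ⟨p, rfl⟩
  show pullback.fst A.hom g ((η[(Over.pullback g).obj A]).left p) ∈ W
  have h1 : η[(Over.pullback g).obj A] = (1 : 𝟙_ (Over (Spec (CommRingCat.of Ω))) ⟶ (Over.pullback g).obj A) := by
    rw [Hom.one_def, toUnit_unique (toUnit _) (𝟙 _), Category.id_comp]
  have h2 : (η[(Over.pullback g).obj A]).left ≫ pullback.fst A.hom g =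
      (toUnit ((Over.map g).obj (𝟙_ (Over (Spec (CommRingCat.of Ω)))))).left ≫ (η[A]).left := by
    rw [h1, ← theta_left g (H := A), theta_one g, Hom.one_def, Over.comp_left]
  show ((η[(Over.pullback g).obj A]).left ≫ pullback.fst A.hom g) p ∈ W
  rw [h2]
  exact hW p

end Geometric

/-- The closure of a section over an open of a regular base meets every fibre in a finite set. -/
theorem finite_closure_inter_fibre (hY : ∀ y : Y, IsRegularLocalRing (Y.presheaf.stalk y))
    (V : Y.Opens) (σ : (Over.mk V.ι : Over Y) ⟶ A) (y : Y) :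
    (closure (Set.range σ.left) ∩ A.hom ⁻¹' {y}).Finite := by
  haveI : IsLocallyNoetherian A.left := LocallyOfFiniteType.isLocallyNoetherian A.hom
  obtain ⟨L, W, s, hL, hW, hyW, hs⟩ := exists_divisor (A := A) hY y
  obtain ⟨m, hm, hm'⟩ := exists_extension hY hL V σ
  obtain ⟨n, hn, hmn⟩ := AVPair.exists_inv hm
  obtain ⟨M, hM, hcl⟩ := exists_compare hL hn
  haveI : IsProper (snd A A).left := inferInstanceAs (IsProper (pullback.snd A.hom A.hom))
  haveI : Flat (snd A A).left := inferInstanceAs (Flat (pullback.snd A.hom A.hom))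
  haveI : GeometricallyIntegral (snd A A).left := inferInstanceAs (GeometricallyIntegral (pullback.snd A.hom A.hom))
  let E := {x : A.left | SeesawGlobal.FieldTriv (snd A A).left M x}
  have hE : IsClosed E := SeesawGlobal.isClosed_fieldTriv (snd A A).left hM
  have hσE : closure (Set.range σ.left) ⊆ E :=
    closure_minimal (by rintro _ ⟨v, rfl⟩; exact fieldTriv_section hM hmn hcl V σ hm' v) hE
  refine Set.Finite.subset ?_ (Set.inter_subset_inter_left _ hσE)
  obtain ⟨Ω, _, _, g, hg⟩ : ∃ (Ω : Type u) (_ : Field Ω) (_ : IsAlgClosed Ω) (g : Spec (CommRingCat.of Ω) ⟶ Y),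
      ∀ w, g w = y := by
    refine ⟨AlgebraicClosure (Y.residueField y), inferInstance, inferInstance,
      Spec.map (CommRingCat.ofHom (algebraMap (Y.residueField y) _)) ≫ Y.fromSpecResidueField y, fun w => ?_⟩
    rw [Scheme.Hom.comp_apply]
    exact Y.fromSpecResidueField_apply y _
  let B := (Over.pullback g).obj A
  letI : GrpObj B := Functor.grpObjObj
  haveI : IsProper B.hom := inferInstanceAs (IsProper (pullback.snd A.hom g))
  haveI : Smooth B.hom := inferInstanceAs (Smooth (pullback.snd A.hom g))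
  haveI : GeometricallyIntegral B.hom := inferInstanceAs (GeometricallyIntegral (pullback.snd A.hom g))
  haveI : JacobsonSpace B.left := LocallyOfFiniteType.jacobsonSpace B.hom
  let pr : B.left ⟶ A.left := pullback.fst A.hom g
  have hpr : A.hom ⁻¹' {y} ⊆ Set.range pr := by
    rw [show Set.range pr = A.hom ⁻¹' Set.range g from Scheme.Pullback.range_fst A.hom g]
    intro x hx
    exact ⟨IsLocalRing.closedPoint Ω, (hg _).trans hx.symm⟩
  suffices h : (pr ⁻¹' E).Finite by
    refine (h.image pr).subset fun x hx => ?_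
    obtain ⟨z, rfl⟩ := hpr hx.2
    exact ⟨z, hx.1, rfl⟩
  haveI : IsAffineHom g := isAffineHom_of_isAffine g
  haveI : IsAffineHom pr := MorphismProperty.pullback_fst (P := @IsAffineHom) A.hom g inferInstance
  have hfin := finite_translations (B := B) (L := (Scheme.Modules.pullback pr).obj L)
    (PicClLib.isInvertible_pullback pr hL) (hW.preimage pr) (eta_mem g fun w => by rw [hg]; exact hyW)
    (s := InvX.pullElt pr s) (by rw [show locus (InvX.pullElt pr s) = pr ⁻¹ᵁ locus s from locus_pullElt hL pr s, hs])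
    (PicMul.pullHom pr m)
  have hfincl : (pr ⁻¹' E ∩ closedPoints B.left).Finite := by
    refine (hfin.image AVAmple.pt).subset fun z hz => ?_
    obtain ⟨b, rfl⟩ := AVAmple.exists_pt (mem_closedPoints_iff.1 hz.2)
    exact ⟨b, translate_eq g hmn hcl b hz.1, rfl⟩
  have hc' : IsClosed (pr ⁻¹' E ∩ closedPoints B.left) := by
    rw [← Set.biUnion_of_singleton (pr ⁻¹' E ∩ closedPoints B.left)]
    exact hfincl.isClosed_biUnion fun z hz => mem_closedPoints_iff.1 hz.2
  rw [← JacobsonSpace.closure_inter_closedPoints (hE.preimage pr.continuous), hc'.closure_eq]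
  exact hfincl

end Groth.Agent.NeronMdl58.AbSch
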