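import Groth.Agent.S1607
import Groth.Agent.ConsPropLib.QFFactor
import Groth.Agent.EGA41Lib.IntDim

/-!
# Separated quasi-finite schemes over a one-dimensional ring are affine
-/

set_option autoImplicit false
set_option linter.style.haveILetI false

universe u

open CategoryTheory AlgebraicGeometry

namespace Groth.Agent.NeronMdl58

theorem isAffineHom_of_qf {R : Type u} [CommRing R] [IsNoetherianRing R] [Ring.KrullDimLE 1 R] {N : Scheme.{u}}
    (f : N ⟶ Spec (CommRingCat.of R)) [IsSeparated f] [QuasiCompact f] [LocallyOfFiniteType f]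
    [LocallyQuasiFinite f] : IsAffineHom f := by
  obtain ⟨T, i, π, hi, hπ, -⟩ := ConsPropLib.exists_finite_factor f
  haveI : CompactSpace N := QuasiCompact.compactSpace_of_compactSpace f
  haveI : IsAffine T := isAffine_of_isAffineHom π
  haveI : IsLocallyNoetherian T := LocallyOfFiniteType.isLocallyNoetherian π
  have hfin := ((HasAffineProperty.iff_of_isAffine (P := @IsFinite) (f := π)).1 hπ).2
  have hdimR : ringKrullDim Γ(Spec (CommRingCat.of R), ⊤) ≤ 1 := by
    rw [ringKrullDim_eq_of_ringEquiv (Scheme.ΓSpecIso (CommRingCat.of R)).commRingCatIsoToRingEquiv]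
    exact (Ring.krullDimLE_iff).1 ‹_›
  letI := π.appTop.hom.toAlgebra
  haveI : Module.Finite Γ(Spec (CommRingCat.of R), ⊤) Γ(T, ⊤) := hfin
  have hdim : ringKrullDim Γ(T, ⊤) ≤ 1 := EGA41Lib.ringKrullDim_le_of_integral.trans hdimR
  have h := Groth.Agent.S1607.result T (fun x => ?_) i.opensRange ?_
  · haveI : IsAffine i.opensRange.toScheme := h
    haveI : IsAffine N := (isAffine_of_isAffineHom (X := N) (Y := i.opensRange.toScheme) i.isoOpensRange.hom)
    infer_instance
  · refine ⟨inferInstance, ?_⟩
    have hx : x ∈ (⊤ : T.Opens) := trivial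
    letI : Algebra Γ(T, ⊤) (T.presheaf.stalk x) := TopCat.Presheaf.algebra_section_stalk T.presheaf (U := ⊤) ⟨x, hx⟩
    haveI := (isAffineOpen_top T).isLocalization_stalk ⟨x, hx⟩
    rw [IsLocalization.AtPrime.ringKrullDim_eq_height ((isAffineOpen_top T).primeIdealOf ⟨x, hx⟩).asIdeal
      (T.presheaf.stalk x)]
    exact (Ideal.height_le_ringKrullDim_of_ne_top (Ideal.IsPrime.ne_top')).trans hdim
  · exact isCompact_range i.continuous

end Groth.Agent.NeronMdl58
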