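import Groth.Agent.SchDenseLib.FlatNoeth
import Groth.Agent.SchDenseLib.Hom
import Groth.Agent.FlatLocus.Basic
import Mathlib.AlgebraicGeometry.Morphisms.FlatMono
import Mathlib.AlgebraicGeometry.Morphisms.Etale

/-!
# Morphisms which are isomorphisms over an open with schematically dense preimage
-/

set_option autoImplicit false
set_option linter.style.haveILetI false

universe u

open CategoryTheory Limits AlgebraicGeometry

namespace Groth.Agent.NeronMdl58

variable {X S : Scheme.{u}} (f : X ⟶ S) (U : S.Opens)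

theorem hom_eq_of_isIso_restrict [IsIso (f ∣_ U)] {T : Scheme.{u}} {a b : T ⟶ X} (h : a ≫ f = b ≫ f)
    (hU : ∀ t, f (a t) ∈ U) : a = b := by
  have hb : ∀ t, f (b t) ∈ U := fun t => by
    rw [← Scheme.Hom.comp_apply, ← h, Scheme.Hom.comp_apply]; exact hU t
  have ha' : Set.range a ⊆ Set.range (f ⁻¹ᵁ U).ι := by
    rw [Scheme.Opens.range_ι]; rintro _ ⟨t, rfl⟩; exact hU t
  have hb' : Set.range b ⊆ Set.range (f ⁻¹ᵁ U).ι := by
    rw [Scheme.Opens.range_ι]; rintro _ ⟨t, rfl⟩; exact hb t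
  rw [← IsOpenImmersion.lift_fac (f ⁻¹ᵁ U).ι a ha', ← IsOpenImmersion.lift_fac (f ⁻¹ᵁ U).ι b hb']
  congr 1
  rw [← cancel_mono (f ∣_ U), ← cancel_mono U.ι, Category.assoc, Category.assoc, morphismRestrict_ι,
    IsOpenImmersion.lift_fac_assoc, IsOpenImmersion.lift_fac_assoc]
  exact h

variable [IsLocallyNoetherian X] (hdense : CInt.IsSchematicallyDense (f ⁻¹ᵁ U))

include hdense in
theorem dense_preimage_ι (W : X.Opens) : CInt.IsSchematicallyDense (W.ι ⁻¹ᵁ (f ⁻¹ᵁ U)) :=
  SchDenseLib.preimage_of_isLocallyNoetherian W.ι _ hdense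

variable [IsIso (f ∣_ U)]

include hdense in
/-- A flat open piece is an open immersion. -/
theorem isOpenImmersion_of_flat (W : X.Opens) (hW : IsAffineOpen W) [Flat (W.ι ≫ f)]
    [LocallyOfFinitePresentation (W.ι ≫ f)] : IsOpenImmersion (W.ι ≫ f) := by
  haveI : IsAffine W.toScheme := hW
  let g := W.ι ≫ f
  haveI : IsSeparated (g ≫ terminal.from S) := by
    rw [show g ≫ terminal.from S = terminal.from _ from terminal.hom_ext _ _]; infer_instance
  haveI : IsSeparated g := IsSeparated.of_comp g (terminal.from S)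
  haveI : IsLocallyNoetherian W.toScheme := isLocallyNoetherian_of_isOpenImmersion W.ι
  haveI : Mono g := by
    refine ⟨fun {Z} a b hab => ?_⟩
    have key : pullback.fst g g = pullback.snd g g := by
      refine SchDenseLib.hom_ext (SchDenseLib.preimage_of_isLocallyNoetherian (pullback.fst g g) _
        (dense_preimage_ι f U hdense W)) g _ _ pullback.condition ?_
      rw [← cancel_mono W.ι]
      refine hom_eq_of_isIso_restrict f U ?_ fun t => t.2
      simp only [Category.assoc]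
      exact congrArg _ (show pullback.fst g g ≫ g = pullback.snd g g ≫ g from pullback.condition)
    rw [← pullback.lift_fst a b hab, key, pullback.lift_snd]
  exact IsOpenImmersion.of_flat_of_mono g

include hdense in
/-- Near a point on a section the morphism is an isomorphism. -/
theorem exists_etale_of_section (V : S.Opens) (σ : V.toScheme ⟶ X) (hσ : σ ≫ f = V.ι) (v : V.toScheme) :
    ∃ W : X.Opens, σ v ∈ W ∧ Etale (W.ι ≫ f) := by
  obtain ⟨W₀, hW₀, hxW₀, -⟩ := exists_isAffineOpen_mem_and_subset (x := σ v) (U := ⊤) trivial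
  obtain ⟨V', hV', hvV', hsub⟩ := exists_isAffineOpen_mem_and_subset (x := V.ι v)
    (U := V.ι ''ᵁ (σ ⁻¹ᵁ W₀)) ⟨v, hxW₀, rfl⟩
  let W := W₀ ⊓ f ⁻¹ᵁ V'
  have hle : V' ≤ V := fun a ha => by obtain ⟨b, -, rfl⟩ := hsub ha; exact b.2
  let σ' := S.homOfLE hle ≫ σ
  have hσ' : σ' ≫ f = V'.ι := by rw [Category.assoc, hσ, Scheme.homOfLE_ι]
  have hr : Set.range σ' ⊆ Set.range W.ι := by
    rw [Scheme.Opens.range_ι]
    rintro _ ⟨a, rfl⟩
    refine ⟨?_, ?_⟩
    · obtain ⟨b, hb, hba⟩ := hsub a.2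
      have : S.homOfLE hle a = b := Subtype.ext (by simp only [Scheme.homOfLE_apply]; exact hba.symm)
      show σ (S.homOfLE hle a) ∈ W₀
      rw [this]; exact hb
    · show f (σ' a) ∈ V'
      rw [← Scheme.Hom.comp_apply, hσ']; exact a.2
  let s : V'.toScheme ⟶ W.toScheme := IsOpenImmersion.lift W.ι σ' hr
  let g : W.toScheme ⟶ V'.toScheme := IsOpenImmersion.lift V'.ι (W.ι ≫ f) (by
    rw [Scheme.Opens.range_ι]; rintro _ ⟨a, rfl⟩; exact a.2.2)
  have hg : g ≫ V'.ι = W.ι ≫ f := IsOpenImmersion.lift_fac _ _ _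
  have hs : s ≫ W.ι = σ' := IsOpenImmersion.lift_fac _ _ _
  have hsg : s ≫ g = 𝟙 _ := by
    rw [← cancel_mono V'.ι, Category.assoc, hg, reassoc_of% hs, hσ', Category.id_comp]
  haveI : IsAffine W₀.toScheme := hW₀
  haveI : IsSeparated (X.homOfLE (show W ≤ W₀ from inf_le_left) ≫ terminal.from W₀.toScheme) := inferInstance
  haveI : IsSeparated (g ≫ terminal.from V'.toScheme) := by
    rw [show g ≫ terminal.from V'.toScheme =
      X.homOfLE (show W ≤ W₀ from inf_le_left) ≫ terminal.from W₀.toScheme from terminal.hom_ext _ _]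
    infer_instance
  haveI : IsSeparated g := IsSeparated.of_comp g (terminal.from V'.toScheme)
  have hgs : g ≫ s = 𝟙 _ := by
    refine SchDenseLib.hom_ext (dense_preimage_ι f U hdense W) g _ _ (by rw [Category.assoc, hsg]; simp) ?_
    rw [← cancel_mono W.ι]
    let D := W.ι ⁻¹ᵁ (f ⁻¹ᵁ U)
    rw [Category.assoc, Category.assoc]
    refine (hom_eq_of_isIso_restrict f U ?_ ?_).symm
    swap
    · intro t; exact t.2
    simp only [Category.assoc, Category.id_comp]
    rw [reassoc_of% hs, hσ', hg]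
  haveI : IsIso g := ⟨s, hgs, hsg⟩
  refine ⟨W, ⟨hxW₀, ?_⟩, ?_⟩
  · show f (σ v) ∈ V'
    rw [← Scheme.Hom.comp_apply, hσ]; exact hvV'
  · rw [← hg]; infer_instance

end Groth.Agent.NeronMdl58
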