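import Groth.Agent.H23.Isogeny
import Mathlib.RingTheory.Ideal.KrullsHeightTheorem
import Mathlib.RingTheory.Etale.Kaehler
import Mathlib.RingTheory.Smooth.StandardSmoothCotangent
import Mathlib.LinearAlgebra.Charpoly.BaseChange
import Mathlib.RingTheory.LocalProperties.Exactness
import Mathlib.AlgebraicGeometry.Morphisms.Etale
import Mathlib.RingTheory.Flat.EquationalCriterion

/-!
Algebra for etaleness in codimension one.
-/

universe u

open TensorProduct

namespace Groth.Agent.NeronMdl58.EtaleCodim

section BaseChange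

variable {B : Type u} [CommRing B] {M N : Type u} [AddCommGroup M] [Module B M] [AddCommGroup N] [Module B N]

theorem baseChange_baseChange (L₁ L₂ : Type u) [CommRing L₁] [CommRing L₂] [Algebra B L₁] [Algebra B L₂]
    [Algebra L₁ L₂] [IsScalarTower B L₁ L₂] (u : M →ₗ[B] N) :
    (AlgebraTensorModule.cancelBaseChange B L₁ L₂ L₂ N).toLinearMap ∘ₗ (u.baseChange L₁).baseChange L₂
      = u.baseChange L₂ ∘ₗ (AlgebraTensorModule.cancelBaseChange B L₁ L₂ L₂ M).toLinearMap := by
  ext; simp

theorem bijective_baseChange_iff (L₁ L₂ : Type u) [CommRing L₁] [CommRing L₂] [Algebra B L₁] [Algebra B L₂]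
    [Algebra L₁ L₂] [IsScalarTower B L₁ L₂] (u : M →ₗ[B] N) :
    Function.Bijective ((u.baseChange L₁).baseChange L₂) ↔ Function.Bijective (u.baseChange L₂) := by
  let eM := AlgebraTensorModule.cancelBaseChange B L₁ L₂ L₂ M
  let eN := AlgebraTensorModule.cancelBaseChange B L₁ L₂ L₂ N
  have h : eN ∘ (u.baseChange L₁).baseChange L₂ = u.baseChange L₂ ∘ eM :=
    funext fun z => LinearMap.congr_fun (baseChange_baseChange L₁ L₂ u) z
  rw [← Function.Bijective.of_comp_iff' eN.bijective, h]
  exact Function.Bijective.of_comp_iff _ eM.bijective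

theorem bijective_baseChange_of_bijective (L : Type u) [CommRing L] [Algebra B L] (u : M →ₗ[B] N)
    (hu : Function.Bijective u) : Function.Bijective (u.baseChange L) :=
  ((LinearEquiv.ofBijective u hu).baseChange B L).bijective

/-- A map of finite free modules over a noetherian local ring which is bijective at all primes of
height at most one is bijective. -/
theorem bijective_of_free {O : Type u} [CommRing O] [IsNoetherianRing O] [IsLocalRing O]
    {M N : Type u} [AddCommGroup M] [Module O M] [AddCommGroup N] [Module O N]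
    [Module.Free O M] [Module.Finite O M] [Module.Free O N] [Module.Finite O N] (u : M →ₗ[O] N)
    (h : ∀ P : Ideal O, ∀ [P.IsPrime], P.height ≤ 1 → Function.Bijective (u.baseChange P.ResidueField)) :
    Function.Bijective u := by
  obtain ⟨P₀, hP₀⟩ := Ideal.nonempty_minimalPrimes (I := (⊥ : Ideal O)) bot_ne_top
  haveI := hP₀.1.1
  have h₀ : Function.Bijective (u.baseChange P₀.ResidueField) := h P₀ (by
    haveI : (⊥ : Ideal O).IsPrincipal := ⟨⟨0, by simp⟩⟩
    exact Ideal.height_le_one_of_isPrincipal_of_mem_minimalPrimes _ P₀ hP₀)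
  have hfr : Module.finrank O N = Module.finrank O M := by
    rw [← Module.finrank_baseChange (R := P₀.ResidueField) (M' := M),
      ← Module.finrank_baseChange (R := P₀.ResidueField) (M' := N)]
    exact ((LinearEquiv.ofBijective _ h₀).finrank_eq).symm
  let ψ : N ≃ₗ[O] M := LinearEquiv.ofFinrankEq N M hfr
  let φ : M →ₗ[O] M := ψ.toLinearMap ∘ₗ u
  suffices IsUnit φ by
    have := (Module.End.isUnit_iff φ).1 this
    exact (Function.Bijective.of_comp_iff' ψ.bijective u).1 this
  rw [LinearMap.isUnit_iff_isUnit_det]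
  by_contra hd
  obtain ⟨P, hP⟩ := Ideal.nonempty_minimalPrimes (I := Ideal.span {LinearMap.det φ})
    (by rwa [Ne, Ideal.span_singleton_eq_top])
  haveI := hP.1.1
  have hht : P.height ≤ 1 := by
    haveI : (Ideal.span {LinearMap.det φ}).IsPrincipal := ⟨⟨LinearMap.det φ, rfl⟩⟩
    exact Ideal.height_le_one_of_isPrincipal_of_mem_minimalPrimes _ P hP
  have hb := h P hht
  have hφ : Function.Bijective (φ.baseChange P.ResidueField) := by
    rw [LinearMap.baseChange_comp]
    exact ((ψ.baseChange O P.ResidueField).bijective).comp hb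
  have h1 : IsUnit (LinearMap.det (φ.baseChange P.ResidueField)) :=
    LinearMap.isUnit_det _ ((Module.End.isUnit_iff _).2 hφ)
  rw [LinearMap.det_baseChange] at h1
  have h2 : LinearMap.det φ ∈ P := hP.1.2 (Ideal.mem_span_singleton_self _)
  rw [Ideal.algebraMap_residueField_eq_zero.2 h2] at h1
  exact h1.ne_zero rfl

/-- A map of finite projective modules over a noetherian ring which is bijective near all primes of
height at most one is bijective. -/
theorem bijective_of_height_le_one [IsNoetherianRing B] [Module.Finite B M] [Module.Projective B M]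
    [Module.Finite B N] [Module.Projective B N] (u : M →ₗ[B] N)
    (h : ∀ P : Ideal B, ∀ [P.IsPrime], P.height ≤ 1 → ∃ g : B, g ∉ P ∧
      Function.Bijective (u.baseChange (Localization.Away g))) :
    Function.Bijective u := by
  refine bijective_of_isLocalized_maximal
    (fun J _ => Localization.AtPrime J ⊗[B] M) (fun J _ => TensorProduct.mk B (Localization.AtPrime J) M 1)
    (fun J _ => Localization.AtPrime J ⊗[B] N) (fun J _ => TensorProduct.mk B (Localization.AtPrime J) N 1)
    u fun J _ => ?_
  let O := Localization.AtPrime J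
  have key : Function.Bijective (u.baseChange O) := by
    haveI : IsNoetherianRing O := IsLocalization.isNoetherianRing J.primeCompl O inferInstance
    haveI : Module.Free O (O ⊗[B] M) := Module.free_of_flat_of_isLocalRing
    haveI : Module.Free O (O ⊗[B] N) := Module.free_of_flat_of_isLocalRing
    refine bijective_of_free _ fun P _ hP => ?_
    obtain ⟨g, hg, hb⟩ := h (P.under B) (by rwa [IsLocalization.height_under J.primeCompl])
    have hu : IsUnit (algebraMap B P.ResidueField g) := by
      rw [isUnit_iff_ne_zero, IsScalarTower.algebraMap_apply B O P.ResidueField, Ne,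
        Ideal.algebraMap_residueField_eq_zero]
      exact hg
    letI : Algebra (Localization.Away g) P.ResidueField := (IsLocalization.Away.lift g hu).toAlgebra
    haveI : IsScalarTower B (Localization.Away g) P.ResidueField :=
      IsScalarTower.of_algebraMap_eq fun b => (IsLocalization.Away.lift_eq g hu b).symm
    rw [bijective_baseChange_iff O P.ResidueField u,
      ← bijective_baseChange_iff (Localization.Away g) P.ResidueField u]
    exact bijective_baseChange_of_bijective _ _ hb
  have e : (IsLocalizedModule.map J.primeCompl (TensorProduct.mk B O M 1) (TensorProduct.mk B O N 1) u)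
      = (u.baseChange O).restrictScalars B := by
    refine IsLocalizedModule.linearMap_ext J.primeCompl (TensorProduct.mk B O M 1) (TensorProduct.mk B O N 1) ?_
    ext m
    simp only [LinearMap.comp_apply, LinearMap.restrictScalars_apply, TensorProduct.mk_apply,
      LinearMap.baseChange_tmul]
    exact IsLocalizedModule.map_apply J.primeCompl (TensorProduct.mk B O M 1) (TensorProduct.mk B O N 1) u m
  rw [e]
  exact key

end BaseChange

section Kaehler

/-- If both algebras become formally etale, the map on differentials becomes bijective. -/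
theorem bijective_baseChange_mapBaseChange (R A B L : Type u) [CommRing R] [CommRing A] [CommRing B] [CommRing L]
    [Algebra R A] [Algebra R B] [Algebra A B] [IsScalarTower R A B]
    [Algebra R L] [Algebra A L] [Algebra B L] [IsScalarTower R A L] [IsScalarTower R B L] [IsScalarTower A B L]
    [Algebra.FormallyEtale A L] [Algebra.FormallyEtale B L] :
    Function.Bijective ((KaehlerDifferential.mapBaseChange R A B).baseChange L) := by
  let eA := KaehlerDifferential.tensorKaehlerEquivOfFormallyEtale R A L
  let eB := KaehlerDifferential.tensorKaehlerEquivOfFormallyEtale R B L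
  let c := AlgebraTensorModule.cancelBaseChange A B L L Ω[A⁄R]
  have h : eB ∘ (KaehlerDifferential.mapBaseChange R A B).baseChange L = eA ∘ c := by
    have : eB.toLinearMap ∘ₗ (KaehlerDifferential.mapBaseChange R A B).baseChange L
        = eA.toLinearMap ∘ₗ c.toLinearMap := by
      ext ω
      simp [eA, eB, c, ← IsScalarTower.algebraMap_apply]
    exact funext fun z => LinearMap.congr_fun this z
  rw [← Function.Bijective.of_comp_iff' eB.bijective, h]
  exact eA.bijective.comp c.bijective

end Kaehler

section Scheme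

open CategoryTheory AlgebraicGeometry

/-- A morphism of smooth schemes which is etale over an open with complement of codimension at least two
is etale. -/
theorem etale_of_codim {X Y S : Scheme.{u}} [IsLocallyNoetherian S] (f : X ⟶ Y) (q : Y ⟶ S)
    [Smooth (f ≫ q)] [Smooth q] (O : S.Opens)
    (hcodim : ∀ s : S, s ∉ O → (2 : WithBot ℕ∞) ≤ ringKrullDim (S.presheaf.stalk s))
    [Etale (((f ≫ q) ⁻¹ᵁ O).ι ≫ f)] : Etale f := by
  haveI : IsLocallyNoetherian X := LocallyOfFiniteType.isLocallyNoetherian (f ≫ q)
  rw [HasRingHomProperty.iff_exists_appLE (P := @Etale)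
    (RingHom.Etale.stableUnderComposition.stableUnderCompositionWithLocalizationAway
      fun _ _ _ _ _ r _ => RingHom.etale_algebraMap.2 (Algebra.Etale.of_isLocalizationAway r)).1]
  intro x₀
  obtain ⟨U, hU, W, hW, hx₀, eW, hWss⟩ := Smooth.exists_isStandardSmooth q (f x₀)
  obtain ⟨V, hV, hxV, hVW⟩ := exists_isAffineOpen_mem_and_subset (x := x₀) (U := f ⁻¹ᵁ W) hx₀
  have eV : V ≤ f ⁻¹ᵁ W := hVW
  refine ⟨⟨W, hW⟩, ⟨V, hV⟩, hxV, eV, ?_⟩
  have eU : V ≤ (f ≫ q) ⁻¹ᵁ U := fun z hz => eW (eV hz)
  have hcomp : q.appLE U W eW ≫ f.appLE W V eV = (f ≫ q).appLE U V eU :=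
    Scheme.Hom.appLE_comp_appLE f q U W V eW eV
  let R := Γ(S, U)
  let A := Γ(Y, W)
  let B := Γ(X, V)
  letI : Algebra R A := (q.appLE U W eW).hom.toAlgebra
  letI : Algebra R B := ((f ≫ q).appLE U V eU).hom.toAlgebra
  letI : Algebra A B := (f.appLE W V eV).hom.toAlgebra
  have : IsScalarTower R A B := IsScalarTower.of_algebraMap_eq fun c =>
    (congrArg (fun m => m.hom c) hcomp).symm
  have hA : Algebra.IsStandardSmooth R A := hWss
  have hB : Algebra.Smooth R B := HasRingHomProperty.appLE (P := @Smooth) (f ≫ q) inferInstance ⟨U, hU⟩ ⟨V, hV⟩ eU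
  show Algebra.Etale A B
  have : Algebra.FinitePresentation A B := Algebra.FinitePresentation.of_restrict_scalars_finitePresentation R A B
  haveI : IsNoetherianRing B := IsLocallyNoetherian.component_noetherian ⟨V, hV⟩
  let u := KaehlerDifferential.mapBaseChange R A B
  have hu : Function.Bijective u := by
    refine bijective_of_height_le_one u fun P _ hP => ?_
    let y : PrimeSpectrum B := ⟨P, inferInstance⟩
    let x : X := hV.fromSpec y
    have hxV' : x ∈ V := by
      have : x ∈ Set.range hV.fromSpec := ⟨y, rfl⟩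
      rwa [hV.range_fromSpec] at this
    have hdim : ringKrullDim (X.presheaf.stalk x) ≤ 1 := by
      letI : Algebra B (X.presheaf.stalk x) := TopCat.Presheaf.algebra_section_stalk X.presheaf (⟨x, hxV'⟩ : V)
      haveI : IsLocalization.AtPrime (X.presheaf.stalk x) P := hV.isLocalization_stalk' y hxV'
      rw [IsLocalization.AtPrime.ringKrullDim_eq_height P (X.presheaf.stalk x)]
      exact WithBot.coe_le_coe.2 hP
    have hxO : (f ≫ q) x ∈ O := by
      by_contra hc
      have h1 := (hcodim _ hc).trans
        ((H23.Isogeny.ringKrullDim_le_of_flat ((f ≫ q).stalkMap x).hom (Flat.stalkMap (f ≫ q) x)).trans hdim)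
      exact absurd h1 (by decide)
    obtain ⟨g, hg, hxg⟩ := hV.exists_basicOpen_le (V := (f ≫ q) ⁻¹ᵁ O) ⟨x, hxO⟩ hxV'
    have hgP : g ∉ P := by
      intro hmem
      have : y ∈ hV.fromSpec ⁻¹ᵁ X.basicOpen g := hxg
      rw [hV.fromSpec_preimage_basicOpen g] at this
      exact this hmem
    let L := Localization.Away g
    let ι₀ : Spec (CommRingCat.of L) ⟶ Spec Γ(X, V) := Spec.map (CommRingCat.ofHom (algebraMap B L))
    haveI : IsOpenImmersion ι₀ := IsOpenImmersion.of_isLocalization g
    let j := ι₀ ≫ hV.fromSpec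
    have hj : Set.range j ⊆ Set.range ((f ≫ q) ⁻¹ᵁ O).ι := by
      rintro _ ⟨z, rfl⟩
      rw [Scheme.Opens.range_ι]
      refine hg ?_
      have hz : ι₀ z ∈ PrimeSpectrum.basicOpen g := by
        have : ι₀ z ∈ Set.range (PrimeSpectrum.comap (algebraMap B L)) := ⟨z, rfl⟩
        rwa [PrimeSpectrum.localization_away_comap_range L g] at this
      show hV.fromSpec (ι₀ z) ∈ X.basicOpen g
      rw [← Scheme.Hom.mem_preimage, hV.fromSpec_preimage_basicOpen g]
      exact hz
    have hlift : IsOpenImmersion.lift ((f ≫ q) ⁻¹ᵁ O).ι j hj ≫ ((f ≫ q) ⁻¹ᵁ O).ι = j :=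
      IsOpenImmersion.lift_fac _ _ _
    haveI : IsOpenImmersion (IsOpenImmersion.lift ((f ≫ q) ⁻¹ᵁ O).ι j hj ≫ ((f ≫ q) ⁻¹ᵁ O).ι) := by
      rw [hlift]; infer_instance
    haveI : IsOpenImmersion (IsOpenImmersion.lift ((f ≫ q) ⁻¹ᵁ O).ι j hj) :=
      IsOpenImmersion.of_comp _ ((f ≫ q) ⁻¹ᵁ O).ι
    have hjf : Etale (j ≫ f) := by
      rw [← hlift, Category.assoc]; infer_instance
    haveI : IsScalarTower A B L := inferInstance
    have hjf' : j ≫ f = Spec.map (CommRingCat.ofHom (algebraMap A L)) ≫ hW.fromSpec := by
      show (ι₀ ≫ hV.fromSpec) ≫ f = _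
      rw [Category.assoc, ← hW.SpecMap_appLE_fromSpec f hV eV, ← Category.assoc, ← Spec.map_comp]
      congr 2
    rw [hjf'] at hjf
    have hspec : Etale (Spec.map (CommRingCat.ofHom (algebraMap A L))) := Etale.of_comp _ hW.fromSpec
    rw [HasRingHomProperty.Spec_iff (P := @Etale)] at hspec
    haveI : Algebra.Etale A L := RingHom.etale_algebraMap.1 hspec
    haveI : Algebra.FormallyEtale B L := Algebra.FormallyEtale.of_isLocalization (Submonoid.powers g)
    exact ⟨g, hgP, bijective_baseChange_mapBaseChange R A B L⟩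
  have : Algebra.FormallyUnramified A B := by
    refine ⟨subsingleton_of_forall_eq 0 fun ω => ?_⟩
    obtain ⟨w, rfl⟩ := KaehlerDifferential.map_surjective R A B ω
    obtain ⟨z, rfl⟩ := hu.2 w
    exact (KaehlerDifferential.exact_mapBaseChange_map R A B).apply_apply_eq_zero z
  have hsub : Subsingleton (Algebra.H1Cotangent A B) := subsingleton_of_forall_eq 0 fun c => by
    have hδ : Algebra.H1Cotangent.δ R A B c = 0 := hu.1 (by
      rw [map_zero]
      exact (Algebra.H1Cotangent.exact_δ_mapBaseChange R A B).apply_apply_eq_zero c)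
    obtain ⟨c', rfl⟩ := (Algebra.H1Cotangent.exact_map_δ R A B c).1 hδ
    rw [Subsingleton.elim c' 0, map_zero]
  have : Algebra.FormallySmooth A B := ⟨inferInstance, hsub⟩
  have : Algebra.FormallyEtale A B :=
    Algebra.FormallyEtale.iff_formallyUnramified_and_formallySmooth.2 ⟨‹_›, ‹_›⟩
  exact ⟨inferInstance, inferInstance⟩

end Scheme

end Groth.Agent.NeronMdl58.EtaleCodim
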