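import Groth.Prelude.Def_Neron
import Groth.Agent.NeronMdl58.PtsCriterion
import Groth.Agent.AlgSpLib.DescendLocally
import Mathlib.AlgebraicGeometry.Geometrically.Integral
import Mathlib.AlgebraicGeometry.Morphisms.Flat
import Mathlib.AlgebraicGeometry.Morphisms.UniversallyOpen

/-!
# Smooth models with integral generic fibre are integral
-/

set_option autoImplicit false
set_option linter.style.haveILetI false

universe u

open CategoryTheory Limits AlgebraicGeometry Topology

namespace Groth.Agent.NeronMdl58

variable (R : Type u) [CommRing R] [IsDomain R] (A : Over (Spec (CommRingCat.of R)))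

theorem range_genericFibre_fst :
    Set.range (pullback.fst A.hom (Neron.genPt R)) = A.hom ⁻¹' {genericPoint (Spec (CommRingCat.of R))} := by
  rw [Scheme.Pullback.range_fst]
  refine congrArg _ (Set.eq_singleton_iff_unique_mem.2 ⟨?_, fun z hz => ?_⟩)
  · let p : Spec (CommRingCat.of (FractionRing R)) := (⟨⊥, Ideal.isPrime_bot⟩ : PrimeSpectrum (FractionRing R))
    exact ⟨p, genPt_apply p⟩
  · obtain ⟨p, rfl⟩ := hz
    exact genPt_apply p

theorem denseRange_genericFibre_fst [Flat A.hom] : DenseRange (pullback.fst A.hom (Neron.genPt R)) := by
  intro x
  obtain ⟨x', hx', hfx⟩ := Flat.generalizingMap A.hom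
    ((genericPoint_spec (Spec (CommRingCat.of R))).specializes (Set.mem_univ (A.hom x)))
  refine specializes_iff_mem_closure.1 hx' |> closure_mono ?_
  rw [range_genericFibre_fst, Set.singleton_subset_iff]
  exact hfx

theorem irreducibleSpace_of_genericFibre [Flat A.hom]
    [IrreducibleSpace ↥((Neron.genericFibre R).obj A).left] : IrreducibleSpace A.left := by
  haveI : IrreducibleSpace ↥(pullback A.hom (Neron.genPt R)) :=
    ‹IrreducibleSpace ↥((Neron.genericFibre R).obj A).left›
  let pr := pullback.fst A.hom (Neron.genPt R)
  have h1 : IsIrreducible (closure (Set.range pr)) := by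
    rw [← Set.image_univ]
    exact ((IrreducibleSpace.isIrreducible_univ _).image pr pr.continuous.continuousOn).closure
  rw [(denseRange_genericFibre_fst R A).closure_range] at h1
  exact irreducibleSpace_def _ |>.2 h1

theorem isIntegral_of_smooth [Smooth A.hom] [GeometricallyIntegral ((Neron.genericFibre R).obj A).hom] :
    IsIntegral A.left := by
  haveI : IsIntegral ((Neron.genericFibre R).obj A).left :=
    GeometricallyIntegral.isIntegral_of_subsingleton ((Neron.genericFibre R).obj A).hom
  haveI := irreducibleSpace_of_genericFibre R A
  haveI : IsReduced A.left := Groth.Agent.AlgSpLib.isReduced_of_smooth A.hom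
  exact isIntegral_of_irreducibleSpace_of_isReduced _

/-- The generic point of the model is the image of that of the generic fibre. -/
theorem fst_genericPoint [Flat A.hom] [IsIntegral A.left] [IsIntegral ((Neron.genericFibre R).obj A).left] :
    pullback.fst A.hom (Neron.genPt R) (genericPoint ((Neron.genericFibre R).obj A).left) =
      genericPoint A.left := by
  have h := (genericPoint_spec ((Neron.genericFibre R).obj A).left).image
    (pullback.fst A.hom (Neron.genPt R)).continuous
  rw [Set.image_univ] at h
  exact (h.eq (by
    have h2 := genericPoint_spec A.left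
    rw [← (denseRange_genericFibre_fst R A).closure_range] at h2
    exact h2)).trans rfl

theorem hom_genericPoint [Flat A.hom] [IsIntegral A.left] [IsIntegral ((Neron.genericFibre R).obj A).left] :
    A.hom (genericPoint A.left) = genericPoint (Spec (CommRingCat.of R)) := by
  have := Set.mem_range_self (f := pullback.fst A.hom (Neron.genPt R))
    (genericPoint ((Neron.genericFibre R).obj A).left)
  rw [range_genericFibre_fst, fst_genericPoint] at this
  exact this

end Groth.Agent.NeronMdl58
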