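import Groth.Agent.Triage.ZMTBir
import Groth.Agent.HTopAwn.Normal
import Groth.Agent.S4647
import Groth.Agent.S4989
import Groth.Agent.S5435
import Mathlib.AlgebraicGeometry.Morphisms.Smooth

/-!
# Quasi-finite separated birational morphisms onto normal schemes, not necessarily irreducible
-/

set_option autoImplicit false
set_option linter.style.haveILetI false

universe u

open CategoryTheory Limits AlgebraicGeometry

namespace Groth.Agent.NeronMdl58.NormalImm

variable {X Y : Scheme.{u}}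

theorem isNormalScheme_of_smooth (f : X ⟶ Y) [Smooth f] (hY : Pi1.IsNormalScheme Y) :
    Pi1.IsNormalScheme X := fun x =>
  (Groth.Agent.S4989.result f x (by
    rw [Scheme.Hom.smoothLocus_eq_top_iff.2 ‹Smooth f›]; trivial)).2.2 (hY (f x))

theorem isNormalScheme_open (hY : Pi1.IsNormalScheme Y) (W : Y.Opens) : Pi1.IsNormalScheme W.toScheme :=
  isNormalScheme_of_smooth W.ι hY

theorem exists_integral_nbhd [IsLocallyNoetherian Y] (hY : Pi1.IsNormalScheme Y) (y : Y) :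
    ∃ W : Y.Opens, y ∈ W ∧ IsIntegral W.toScheme := by
  refine Groth.Agent.S4647.result (𝟙 Y) (fun x => (hY x).1) (fun y => ?_) y
  obtain ⟨U, hU, hyU, -⟩ := exists_isAffineOpen_mem_and_subset (x := y) (U := ⊤) trivial
  haveI : IsAffine U.toScheme := hU
  haveI : IsLocallyNoetherian U.toScheme := isLocallyNoetherian_of_isOpenImmersion U.ι
  haveI : IsNoetherian U.toScheme := {}
  exact ⟨U, hyU, inferInstanceAs (TopologicalSpace.NoetherianSpace U.toScheme)⟩

theorem dense_preimage_of_dense {X W : Scheme.{u}} (j : W ⟶ X) [IsOpenImmersion j] {O : Set X}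
    (hO : Dense O) : Dense (j ⁻¹' O) :=
  hO.preimage j.isOpenEmbedding.isOpenMap

/-- The integral case. -/
theorem isOpenImmersion_of_dense_iso_integral [IsIntegral Y] [Nonempty X] (hY : Pi1.IsNormalScheme Y)
    (hX : Pi1.IsNormalScheme X) (φ : X ⟶ Y) [IsSeparated φ] [QuasiCompact φ] [LocallyQuasiFinite φ]
    [LocallyOfFiniteType φ] (O : Y.Opens) [IsIso (φ ∣_ O)] (hO : Dense ((φ ⁻¹ᵁ O : X.Opens) : Set X)) :
    IsOpenImmersion φ := by
  obtain ⟨x₀, hx₀⟩ := hO.nonempty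
  let P : Scheme.{u} := (φ ⁻¹ᵁ O).toScheme
  haveI : Nonempty P := ⟨⟨x₀, hx₀⟩⟩
  haveI : Nonempty O.toScheme := ⟨(φ ∣_ O) ⟨x₀, hx₀⟩⟩
  haveI hOi : IsIntegral O.toScheme := isIntegral_of_isOpenImmersion O.ι
  haveI hPi : IsIntegral P := isIntegral_of_isOpenImmersion (φ ∣_ O)
  haveI := Groth.Agent.HTopAwn.isReduced_of_isNormal hX
  haveI : IrreducibleSpace X := by
    have h1 : IsIrreducible (Set.range (φ ⁻¹ᵁ O).ι) :=
      Set.image_univ ▸ (IrreducibleSpace.isIrreducible_univ P).image _ (φ ⁻¹ᵁ O).ι.continuous.continuousOn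
    rw [Scheme.Opens.range_ι] at h1
    exact { isPreirreducible_univ := hO.closure_eq ▸ h1.2.closure, toNonempty := ⟨x₀⟩ }
  haveI : IsIntegral X := isIntegral_of_irreducibleSpace_of_isReduced X
  let j := (φ ⁻¹ᵁ O).ι
  have hj : j (genericPoint P) = genericPoint X := genericPoint_eq_of_isOpenImmersion j
  have hjφ : j ≫ φ = (φ ∣_ O) ≫ O.ι := (morphismRestrict_ι φ O).symm
  have hgen : φ (genericPoint X) = genericPoint Y := by
    rw [← hj, ← Scheme.Hom.comp_apply, hjφ]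
    exact genericPoint_eq_of_isOpenImmersion ((φ ∣_ O) ≫ O.ι)
  refine Triage.ZMTBir.isOpenImmersion_of_birational (fun y => (hY y).2) φ hgen ?_
  have key : ∀ z : X, z = j (genericPoint P) → IsIso (φ.stalkMap z) := by
    rintro z rfl
    refine Triage.ZMTBir.isIso_stalkMap_right j φ _ ?_
    rw [Scheme.Hom.stalkMap_congr_hom _ ((φ ∣_ O) ≫ O.ι) hjφ]
    infer_instance
  exact key _ hj.symm

/-- A separated quasi-finite morphism of normal schemes which is an isomorphism over an open with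
dense preimage is an open immersion. -/
theorem isOpenImmersion_of_dense_iso [IsLocallyNoetherian Y] (hY : Pi1.IsNormalScheme Y)
    (hX : Pi1.IsNormalScheme X) (φ : X ⟶ Y) [IsSeparated φ] [QuasiCompact φ] [LocallyQuasiFinite φ]
    [LocallyOfFiniteType φ] (O : Y.Opens) [IsIso (φ ∣_ O)] (hO : Dense ((φ ⁻¹ᵁ O : X.Opens) : Set X)) :
    IsOpenImmersion φ := by
  choose W hyW hW using exists_integral_nbhd hY
  have hcov : TopologicalSpace.IsOpenCover W := by
    refine eq_top_iff.2 fun y _ => ?_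
    exact TopologicalSpace.Opens.mem_iSup.2 ⟨y, hyW y⟩
  refine IsZariskiLocalAtTarget.of_iSup_eq_top (P := @IsOpenImmersion) W hcov fun y => ?_
  haveI := hW y
  cases isEmpty_or_nonempty (φ ⁻¹ᵁ W y).toScheme
  · infer_instance
  haveI : IsIso (φ ∣_ W y ∣_ (W y).ι ⁻¹ᵁ O) := by
    have hle : (W y).ι ''ᵁ ((W y).ι ⁻¹ᵁ O) ≤ O := (W y).ι.image_preimage_le O
    haveI : IsIso (φ ∣_ (W y).ι ''ᵁ ((W y).ι ⁻¹ᵁ O)) := by
      let e := morphismRestrictRestrict φ O (O.ι ⁻¹ᵁ ((W y).ι ''ᵁ ((W y).ι ⁻¹ᵁ O)))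
      have heq : O.ι ''ᵁ (O.ι ⁻¹ᵁ ((W y).ι ''ᵁ ((W y).ι ⁻¹ᵁ O))) = (W y).ι ''ᵁ ((W y).ι ⁻¹ᵁ O) := by
        rw [Scheme.Hom.image_preimage_eq_opensRange_inf, Scheme.Opens.opensRange_ι, inf_eq_right.2 hle]
      exact (MorphismProperty.isomorphisms Scheme).arrow_mk_iso_iff
        (e ≪≫ morphismRestrictEq φ heq) |>.1 (show IsIso _ from inferInstance)
    exact (MorphismProperty.isomorphisms Scheme).arrow_mk_iso_iff
      (morphismRestrictRestrict φ (W y) _) |>.2 (show IsIso _ from inferInstance)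
  refine isOpenImmersion_of_dense_iso_integral (isNormalScheme_open hY (W y))
    (isNormalScheme_open hX (φ ⁻¹ᵁ W y)) (φ ∣_ W y) ((W y).ι ⁻¹ᵁ O) ?_
  have : (((φ ∣_ W y) ⁻¹ᵁ ((W y).ι ⁻¹ᵁ O) : (φ ⁻¹ᵁ W y).toScheme.Opens) : Set (φ ⁻¹ᵁ W y).toScheme)
      = (φ ⁻¹ᵁ W y).ι ⁻¹' ((φ ⁻¹ᵁ O : X.Opens) : Set X) := by
    rw [← Scheme.Hom.comp_preimage, morphismRestrict_ι, Scheme.Hom.comp_preimage]
    rfl
  rw [this]
  exact dense_preimage_of_dense _ hO

end Groth.Agent.NeronMdl58.NormalImm
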