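import Groth.Agent.NeronMdl58.NormalizationAlg
import Groth.Agent.NeronMdl58.NormalImm
import Groth.Agent.SchTop.Closed
import Groth.Agent.UnibEtale.RatSect
import Groth.Agent.H23.FinCondSch
import Groth.Agent.S2102
import Mathlib.AlgebraicGeometry.Normalization
import Mathlib.AlgebraicGeometry.Morphisms.Finite
import Mathlib.AlgebraicGeometry.Morphisms.Etale

/-!
# Normalization in a separated quasi-compact etale scheme over a normal noetherian scheme
-/

set_option autoImplicit false
set_option linter.style.haveILetI false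
set_option backward.isDefEq.respectTransparency false
set_option backward.isDefEq.respectTransparency.types false

universe u

open CategoryTheory Limits AlgebraicGeometry TopologicalSpace Opposite

namespace Groth.Agent.NeronMdl58.NormalizationNormal

/-- A compact open of a normal locally noetherian scheme is a finite disjoint union of integral opens. -/
theorem exists_integral_decomp {Y : Scheme.{u}} [IsLocallyNoetherian Y] (hY : Pi1.IsNormalScheme Y)
    (V : Y.Opens) (hV : IsCompact (V : Set Y)) :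
    ∃ (ι : Type u) (_ : Finite ι) (Z : ι → Y.Opens), (∀ i, IsIntegral (Z i).toScheme) ∧
      (∀ i, Z i ≤ V) ∧ V ≤ iSup Z ∧ ∀ i j, i ≠ j → Z i ⊓ Z j = ⊥ := by
  haveI : CompactSpace V.toScheme := isCompact_iff_compactSpace.1 hV
  haveI : IsLocallyNoetherian V.toScheme := isLocallyNoetherian_of_isOpenImmersion V.ι
  haveI : AlgebraicGeometry.IsNoetherian V.toScheme := {}
  have hn := NormalImm.isNormalScheme_open hY V
  haveI hd : ∀ z : V.toScheme, IsDomain (V.toScheme.presheaf.stalk z) := fun z => (hn z).1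
  have hfin : (irreducibleComponents V.toScheme).Finite :=
    TopologicalSpace.NoetherianSpace.finite_irreducibleComponents
  let Z : irreducibleComponents V.toScheme → Y.Opens := fun C =>
    V.ι ''ᵁ ⟨C.1, SchTop.isOpen_component_of_finite hfin hd C.2⟩
  refine ⟨irreducibleComponents V.toScheme, hfin.to_subtype, Z, fun C => ?_, fun C => ?_, fun y hy => ?_,
    fun C D hCD => ?_⟩
  · haveI := C.2.1.nonempty
    haveI : Nonempty (Z C).toScheme := by
      obtain ⟨c, hc⟩ := C.2.1.nonempty
      exact ⟨⟨V.ι c, c, hc, rfl⟩⟩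
    haveI : IrreducibleSpace (Z C).toScheme :=
      haveI : PreirreducibleSpace (Z C).toScheme :=
        Subtype.preirreducibleSpace (C.2.1.image _ V.ι.continuous.continuousOn).2
      { toNonempty := inferInstance }
    haveI : IsReduced (Z C).toScheme :=
      Groth.Agent.HTopAwn.isReduced_of_isNormal (NormalImm.isNormalScheme_open hY (Z C))
    exact isIntegral_of_irreducibleSpace_of_isReduced _
  · rintro _ ⟨c, -, rfl⟩; exact c.2
  · exact TopologicalSpace.Opens.mem_iSup.2 ⟨⟨irreducibleComponent (⟨y, hy⟩ : V.toScheme),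
      irreducibleComponent_mem_irreducibleComponents _⟩, ⟨⟨y, hy⟩, mem_irreducibleComponent, rfl⟩⟩
  · ext y
    refine ⟨?_, fun h => h.elim⟩
    rintro ⟨⟨c, hc, rfl⟩, d, hd', hdc⟩
    obtain rfl : d = c := V.ι.isOpenEmbedding.injective hdc
    exact hCD (Subtype.ext (H23.FinCondSch.unique_component
      (by rw [nilradical_eq_zero]; exact Ideal.bot_prime) C.2 D.2 hc hd'))

/-- Spectra of integrally closed domains are normal. -/
theorem isNormalScheme_spec (R : Type u) [CommRing R] [IsDomain R] [IsIntegrallyClosed R] :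
    Pi1.IsNormalScheme (Spec (CommRingCat.of R)) := by
  intro (z : PrimeSpectrum R)
  letI : Algebra R ((Spec (CommRingCat.of R)).presheaf.stalk z) := StructureSheaf.stalkAlgebra R z
  haveI : IsLocalization.AtPrime ((Spec (CommRingCat.of R)).presheaf.stalk z) z.asIdeal :=
    StructureSheaf.IsLocalization.to_stalk R z
  exact ⟨IsLocalization.isDomain_of_le_nonZeroDivisors _ z.asIdeal.primeCompl_le_nonZeroDivisors,
    haveI := IsLocalization.isDomain_of_le_nonZeroDivisors ((Spec (CommRingCat.of R)).presheaf.stalk z)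
      z.asIdeal.primeCompl_le_nonZeroDivisors
    isIntegrallyClosed_of_isLocalization _ z.asIdeal.primeCompl z.asIdeal.primeCompl_le_nonZeroDivisors⟩

variable {Y S : Scheme.{u}} (f : Y ⟶ S) [Etale f] [QuasiCompact f]

/-- Over an integral affine open the integral closure is finite and a product of normal domains. -/
theorem exists_equiv [IsLocallyNoetherian S] (hS : Pi1.IsNormalScheme S) {U : S.Opens}
    (hU : IsAffineOpen U) [IsIntegral U.toScheme] :
    letI := (f.app U).hom.toAlgebra
    ∃ (ι : Type u) (_ : Finite ι) (C : ι → Type u) (_ : ∀ i, CommRing (C i)) (_ : ∀ i, Algebra Γ(S, U) (C i)),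
      (∀ i, IsDomain (C i) ∧ IsIntegrallyClosed (C i) ∧ Module.Finite Γ(S, U) (C i)) ∧
        Nonempty (integralClosure Γ(S, U) Γ(Y, f ⁻¹ᵁ U) ≃ₐ[Γ(S, U)] ∀ i, C i) := by
  letI := (f.app U).hom.toAlgebra
  haveI : IsLocallyNoetherian Y := LocallyOfFiniteType.isLocallyNoetherian f
  have hY := NormalImm.isNormalScheme_of_smooth f hS
  haveI : IsNoetherianRing Γ(S, U) := IsLocallyNoetherian.component_noetherian ⟨U, hU⟩
  haveI : IsAffine U.toScheme := hU
  haveI : IsDomain Γ(S, U) := U.topIso.commRingCatIsoToRingEquiv.symm.toMulEquiv.isDomain _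
  haveI : IsIntegrallyClosed Γ(S, U) := by
    haveI := S2102.result U.toScheme (NormalImm.isNormalScheme_open hS U)
    exact IsIntegrallyClosed.of_equiv U.topIso.commRingCatIsoToRingEquiv
  obtain ⟨ι, hι, Z, hZi, hZV, hVZ, hdisj⟩ :=
    exists_integral_decomp hY (f ⁻¹ᵁ U) (f.isCompact_preimage hU.isCompact)
  letI : ∀ i, Algebra Γ(S, U) Γ(Y, Z i) := fun i => (f.appLE U (Z i) (hZV i)).hom.toAlgebra
  haveI : ∀ i, IsDomain Γ(Y, Z i) := fun i =>
    haveI := hZi i
    haveI : Nonempty (⊤ : (Z i).toScheme.Opens) := ⟨⟨genericPoint (Z i).toScheme, trivial⟩⟩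
    (Z i).topIso.commRingCatIsoToRingEquiv.symm.toMulEquiv.isDomain _
  refine ⟨ι, hι, fun i => integralClosure Γ(S, U) Γ(Y, Z i), inferInstance, inferInstance, fun i => ?_, ?_⟩
  · haveI := hZi i
    haveI : IsIntegrallyClosed Γ(Y, Z i) := by
      haveI := S2102.result (Z i).toScheme (NormalImm.isNormalScheme_open hY (Z i))
      exact IsIntegrallyClosed.of_equiv (Z i).topIso.commRingCatIsoToRingEquiv
    refine ⟨inferInstance, NormalizationAlg.isIntegrallyClosed_integralClosure _ _, ?_⟩
    obtain ⟨W, hW, hxW, hWZ⟩ := exists_isAffineOpen_mem_and_subset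
      (x := (Z i).ι (genericPoint (Z i).toScheme)) (U := Z i) (genericPoint (Z i).toScheme).2
    have hWZ' : W ≤ Z i := hWZ
    haveI : Nonempty W.toScheme := ⟨⟨_, hxW⟩⟩
    haveI : IsIntegral W.toScheme := isIntegral_of_isOpenImmersion (Y.homOfLE hWZ')
    haveI : IsAffine W.toScheme := hW
    haveI : Nonempty (⊤ : W.toScheme.Opens) := ⟨⟨genericPoint W.toScheme, trivial⟩⟩
    haveI : IsDomain Γ(Y, W) := W.topIso.commRingCatIsoToRingEquiv.symm.toMulEquiv.isDomain _
    letI : Algebra Γ(S, U) Γ(Y, W) := (f.appLE U W (hWZ'.trans (hZV i))).hom.toAlgebra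
    haveI : Algebra.Etale Γ(S, U) Γ(Y, W) := f.etale_appLE hU hW _
    haveI := NormalizationAlg.finite_integralClosure_of_etale Γ(S, U) Γ(Y, W)
    let r : Γ(Y, Z i) →ₐ[Γ(S, U)] Γ(Y, W) :=
      { (Y.presheaf.map (homOfLE hWZ').op).hom with
        commutes' := fun a => congrArg (fun m => m.hom a) (Scheme.Hom.appLE_map f (hZV i) (homOfLE hWZ').op) }
    refine Module.Finite.of_injective r.mapIntegralClosure.toLinearMap fun a b h => Subtype.ext ?_
    have hinj : Function.Injective (Y.presheaf.map (homOfLE hWZ').op) := by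
      refine (injective_iff_map_eq_zero (Y.presheaf.map (homOfLE hWZ').op).hom).2 fun s hs => ?_
      refine TopCat.Presheaf.section_ext Y.sheaf (Z i) _ _ fun z hz => ?_
      show Y.presheaf.germ (Z i) z hz s = Y.presheaf.germ (Z i) z hz 0
      rw [map_zero]
      let η := (Z i).ι (genericPoint (Z i).toScheme)
      have hηz : η ⤳ z :=
        (genericPoint_specializes (α := (Z i).toScheme) ⟨z, hz⟩).map (Z i).ι.continuous
      obtain ⟨W', hW', hzW', hW'Z⟩ := exists_isAffineOpen_mem_and_subset (x := z) (U := Z i) hz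
      haveI : Nonempty W'.toScheme := ⟨⟨z, hzW'⟩⟩
      haveI : IsIntegral W'.toScheme := isIntegral_of_isOpenImmersion (Y.homOfLE (show W' ≤ Z i from hW'Z))
      haveI : IsAffine W'.toScheme := hW'
      haveI : Nonempty (⊤ : W'.toScheme.Opens) := ⟨⟨genericPoint W'.toScheme, trivial⟩⟩
      haveI : IsDomain Γ(Y, W') := W'.topIso.commRingCatIsoToRingEquiv.symm.toMulEquiv.isDomain _
      apply (UnibEtale.frac_chart hW' (hηz.mem_open W'.2 hzW') hzW' hηz).1
      rw [map_zero, TopCat.Presheaf.germ_stalkSpecializes_apply]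
      rw [show Y.presheaf.germ (Z i) η (genericPoint (Z i).toScheme).2 s =
        Y.presheaf.germ W η hxW (Y.presheaf.map (homOfLE hWZ').op s) from
          (Y.presheaf.germ_res_apply (homOfLE hWZ') η hxW s).symm, show Y.presheaf.map (homOfLE hWZ').op s = 0 from hs,
        map_zero]
    exact hinj (congrArg Subtype.val h)
  · let φ : Γ(Y, f ⁻¹ᵁ U) →ₐ[Γ(S, U)] ∀ i, Γ(Y, Z i) := AlgHom.pi fun i =>
      { (Y.presheaf.map (homOfLE (hZV i)).op).hom with commutes' := fun a => rfl }
    refine NormalizationAlg.exists_prod_equiv _ _ _ φ ⟨fun a b h => ?_, fun c => ?_⟩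
    · exact Y.sheaf.eq_of_locally_eq' Z (f ⁻¹ᵁ U) (fun i => homOfLE (hZV i)) hVZ a b (congrFun h)
    · obtain ⟨s, hs, -⟩ := Y.sheaf.existsUnique_gluing' Z (f ⁻¹ᵁ U) (fun i => homOfLE (hZV i)) hVZ c (fun i j => by
        by_cases hij : i = j
        · subst hij; rfl
        · haveI : Subsingleton Γ(Y, Z i ⊓ Z j) := by rw [hdisj i j hij]; infer_instance
          exact Subsingleton.elim (α := Γ(Y, Z i ⊓ Z j)) _ _)
      exact ⟨s, funext hs⟩

/-- The normalization of a normal noetherian scheme in an etale scheme is finite and normal. -/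
theorem isFinite_and_normal [IsLocallyNoetherian S] (hS : Pi1.IsNormalScheme S) [QuasiSeparated f] :
    IsFinite f.fromNormalization ∧ Pi1.IsNormalScheme f.normalization := by
  have hcov : ∀ s : S, ∃ U : S.Opens, IsAffineOpen U ∧ s ∈ U ∧ IsIntegral U.toScheme := fun s => by
    obtain ⟨W, hsW, hW⟩ := NormalImm.exists_integral_nbhd hS s
    obtain ⟨U, hU, hsU, hUW⟩ := exists_isAffineOpen_mem_and_subset (x := s) (U := W) hsW
    haveI : Nonempty U.toScheme := ⟨⟨s, hsU⟩⟩
    exact ⟨U, hU, hsU, isIntegral_of_isOpenImmersion (S.homOfLE (show U ≤ W from hUW))⟩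
  choose U hU hsU hint using hcov
  refine ⟨?_, fun x => ?_⟩
  · rw [IsZariskiLocalAtTarget.iff_of_iSup_eq_top (P := @IsFinite.{u}) U
      (eq_top_iff.2 fun s _ => TopologicalSpace.Opens.mem_iSup.2 ⟨s, hsU s⟩)]
    intro s
    let e := IsOpenImmersion.isoOfRangeEq (f.fromNormalization ⁻¹ᵁ U s).ι (f.normalizationOpenCover.f ⟨U s, hU s⟩)
      (by simpa using congr($(f.fromNormalization_preimage ⟨U s, hU s⟩).1))
    rw [← MorphismProperty.cancel_left_of_respectsIso @IsFinite e.inv,
      ← MorphismProperty.cancel_right_of_respectsIso @IsFinite _ (hU s).isoSpec.hom]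
    have : (f.normalizationDiagramMap.app (.op (U s))).hom.Finite := by
      letI := (f.app (U s)).hom.toAlgebra
      haveI := hint s
      obtain ⟨ι, _, C, _, _, hC, ⟨ε⟩⟩ := exists_equiv f hS (hU s)
      haveI := fun i => (hC i).2.2
      haveI : Module.Finite Γ(S, U s) (integralClosure Γ(S, U s) Γ(Y, f ⁻¹ᵁ U s)) :=
        Module.Finite.equiv ε.symm.toLinearEquiv
      show (algebraMap Γ(S, U s) (integralClosure Γ(S, U s) Γ(Y, f ⁻¹ᵁ U s))).Finite
      exact RingHom.finite_algebraMap.2 inferInstance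
    convert! (IsFinite.SpecMap_iff _).mpr this
    rw [← cancel_mono (hU s).fromSpec]
    simp [IsAffineOpen.isoSpec_hom, e, Scheme.Hom.ι_fromNormalization]
  · let s := f.fromNormalization x
    haveI := hint s
    letI := (f.app (U s)).hom.toAlgebra
    obtain ⟨ι, _, C, iC, iA, hC, ⟨ε⟩⟩ := exists_equiv f hS (hU s)
    letI := iC
    obtain ⟨y, hy⟩ : x ∈ Set.range (f.normalizationOpenCover.f ⟨U s, hU s⟩) := by
      have h1 : x ∈ f.fromNormalization ⁻¹ᵁ U s := hsU s
      rwa [f.fromNormalization_preimage ⟨U s, hU s⟩] at h1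
    let c : Spec (CommRingCat.of (integralClosure Γ(S, U s) Γ(Y, f ⁻¹ᵁ U s))) ⟶ f.normalization :=
      f.normalizationOpenCover.f ⟨U s, hU s⟩
    let E : Spec (CommRingCat.of (∀ i, C i)) ⟶ Spec (CommRingCat.of (integralClosure Γ(S, U s) Γ(Y, f ⁻¹ᵁ U s))) :=
      Spec.map ε.toRingEquiv.toCommRingCatIso.hom
    let q := sigmaSpec (fun i => CommRingCat.of (C i)) ≫ E
    haveI : IsIso q := inferInstance
    obtain ⟨w, hw⟩ : ∃ w, q w = (y : Spec (CommRingCat.of (integralClosure Γ(S, U s) Γ(Y, f ⁻¹ᵁ U s)))) :=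
      q.surjective y
    obtain ⟨i, z, rfl⟩ := (sigmaOpenCover fun i => Spec (CommRingCat.of (C i))).exists_eq w
    let j : Spec (CommRingCat.of (C i)) ⟶ f.normalization :=
      (Sigma.ι (fun i => Spec (CommRingCat.of (C i))) i ≫ q) ≫ c
    haveI : IsOpenImmersion c := inferInstanceAs (IsOpenImmersion (f.normalizationOpenCover.f ⟨U s, hU s⟩))
    haveI : IsOpenImmersion j := inferInstance
    have hjz : j z = x := by
      rw [← hy]
      show c (q (Sigma.ι (fun i => Spec (CommRingCat.of (C i))) i z)) = _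
      exact congrArg c hw
    haveI := (hC i).1
    haveI := (hC i).2.1
    obtain ⟨h1, h2⟩ := isNormalScheme_spec (C i) z
    rw [← hjz]
    let es := (asIso (j.stalkMap z)).commRingCatIsoToRingEquiv
    exact ⟨es.toMulEquiv.isDomain _, IsIntegrallyClosed.of_equiv es.symm⟩

end Groth.Agent.NeronMdl58.NormalizationNormal
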