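import Groth.Agent.NeronMdl58.SmoothLocusNMP
import Groth.Agent.NeronMdl58.NormalizationNormal
import Groth.Agent.NeronMdl58.IntModel
import Mathlib.AlgebraicGeometry.Morphisms.Finite
import Mathlib.RingTheory.Localization.Integral
import Mathlib.RingTheory.Unramified.Field

/-!
# The finite normal model of a finite etale scheme over the fraction field of a Dedekind domain,
# and extension of morphisms from generic fibres of smooth schemes into finite schemes
-/

set_option autoImplicit false
set_option linter.style.haveILetI false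

universe u

open CategoryTheory Limits AlgebraicGeometry nonZeroDivisors

namespace Groth.Agent.NeronMdl58.EtaleNeron

section Algebra

variable (R K L : Type u) [CommRing R] [IsDomain R] [IsNoetherianRing R] [IsIntegrallyClosed R] [Field K]
  [Algebra R K] [IsFractionRing R K] [CommRing L] [Algebra K L] [Algebra R L] [IsScalarTower R K L]
  [Algebra.Etale K L]

include K

/-- The integral closure in a finite etale algebra over the fraction field. -/
theorem exists_prod_decomp :
    ∃ (ι : Type u) (_ : Finite ι) (C : ι → Type u) (_ : ∀ i, CommRing (C i)) (_ : ∀ i, Algebra R (C i)),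
      (∀ i, IsDomain (C i) ∧ IsIntegrallyClosed (C i) ∧ Module.Finite R (C i)) ∧
        Nonempty (integralClosure R L ≃ₐ[R] ∀ i, C i) := by
  haveI : Module.Finite K L := Algebra.FormallyUnramified.finite_of_free K L
  haveI : IsArtinianRing L := isArtinian_of_tower K inferInstance
  haveI : IsReduced L := Algebra.FormallyUnramified.isReduced_of_field K L
  let B : MaximalSpectrum L → Type u := fun m => L ⧸ m.asIdeal
  letI : ∀ m, Field (B m) := fun m => Ideal.Quotient.field m.asIdeal
  let φ : L →ₐ[R] ∀ m, B m := (IsArtinianRing.equivPi L).toAlgHom.restrictScalars R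
  refine ⟨MaximalSpectrum L, inferInstance, fun m => integralClosure R (B m), inferInstance, inferInstance,
    fun m => ⟨inferInstance, NormFieldX.isIntegrallyClosed_integralClosure R (B m), ?_⟩,
    NormalizationAlg.exists_prod_equiv R L B φ (IsArtinianRing.equivPi L).bijective⟩
  haveI : Algebra.FormallyUnramified L (B m) :=
    Algebra.FormallyUnramified.of_surjective (Algebra.ofId L (B m)) Ideal.Quotient.mk_surjective
  haveI : Algebra.FormallyUnramified K (B m) := Algebra.FormallyUnramified.comp K L (B m)
  haveI : Module.Finite K (B m) := Module.Finite.trans L (B m)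
  haveI : Algebra.IsSeparable K (B m) := Algebra.FormallyUnramified.isSeparable K (B m)
  exact IsIntegralClosure.finite R K (B m) _

omit [IsDomain R] [IsNoetherianRing R] [IsIntegrallyClosed R] in
theorem isLocalization_integralClosure :
    IsLocalization (Algebra.algebraMapSubmonoid (integralClosure R L) R⁰) L := by
  haveI : Module.Finite K L := Algebra.FormallyUnramified.finite_of_free K L
  refine ⟨?_, fun l => ?_, fun {a b} h => ⟨1, by simpa using (Subtype.ext h : a = b)⟩⟩
  · rintro ⟨_, r, hr, rfl⟩
    show IsUnit (algebraMap R L r)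
    rw [IsScalarTower.algebraMap_apply R K L]
    exact (IsLocalization.map_units K (⟨r, hr⟩ : R⁰)).map _
  · obtain ⟨⟨r, hr⟩, hrl⟩ := IsIntegral.exists_multiple_integral_of_isLocalization R⁰ (Rₘ := K) l
      (Algebra.IsIntegral.isIntegral l)
    refine ⟨⟨⟨_, hrl⟩, ⟨algebraMap R _ r, r, hr, rfl⟩⟩, ?_⟩
    show l * algebraMap R L r = r • l
    rw [Algebra.smul_def, mul_comm]

omit [IsNoetherianRing R] [IsIntegrallyClosed R] in
theorem formallySmooth_atPrime (C : Type u) [CommRing C] [Algebra R C] [Algebra C L] [IsScalarTower R C L]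
    [IsLocalization (Algebra.algebraMapSubmonoid C R⁰) L] (q : Ideal C) [q.IsPrime]
    (hq : q.comap (algebraMap R C) = ⊥) :
    Algebra.FormallySmooth R (Localization.AtPrime q) := by
  have hM : Algebra.algebraMapSubmonoid C R⁰ ≤ q.primeCompl := by
    rintro _ ⟨r, hr, rfl⟩ h
    have h' : r ∈ q.comap (algebraMap R C) := h
    rw [hq] at h'
    exact nonZeroDivisors.ne_zero hr h'
  let Cq := Localization.AtPrime q
  letI : Algebra L Cq := (IsLocalization.lift (M := Algebra.algebraMapSubmonoid C R⁰) (S := L)
    (g := algebraMap C Cq) fun y => IsLocalization.map_units Cq (⟨y.1, hM y.2⟩ : q.primeCompl)).toAlgebra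
  haveI : IsScalarTower C L Cq := IsScalarTower.of_algebraMap_eq fun x => (IsLocalization.lift_eq _ x).symm
  haveI : IsScalarTower R L Cq := IsScalarTower.of_algebraMap_eq fun r => by
    rw [IsScalarTower.algebraMap_apply R C Cq, IsScalarTower.algebraMap_apply C L Cq,
      ← IsScalarTower.algebraMap_apply R C L]
  haveI : IsLocalization (q.primeCompl.map (algebraMap C L)) Cq :=
    IsLocalization.isLocalization_of_submonoid_le L Cq (Algebra.algebraMapSubmonoid C R⁰) q.primeCompl hM
  haveI : Algebra.FormallyEtale L Cq := Algebra.FormallyEtale.of_isLocalization (q.primeCompl.map (algebraMap C L))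
  haveI : Algebra.FormallyEtale R K := Algebra.FormallyEtale.of_isLocalization R⁰
  haveI : Algebra.FormallySmooth R L := Algebra.FormallySmooth.comp R K L
  exact Algebra.FormallySmooth.comp R L Cq

end Algebra

section Model

variable (R : Type u) [CommRing R] [IsDedekindDomain R]

/-- The finite normal model. -/
theorem exists_model (G : Over (Spec (CommRingCat.of (FractionRing R)))) [IsFinite G.hom] [Etale G.hom] :
    ∃ (T : Scheme.{u}) (π : T ⟶ Spec (CommRingCat.of R)) (j : G.left ⟶ T), IsFinite π ∧ Pi1.IsNormalScheme T ∧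
      IsPullback j G.hom π (Neron.genPt R) ∧ ∀ a, (π.stalkMap (j a)).hom.FormallySmooth := by
  let K := FractionRing R
  haveI : IsAffine G.left := isAffine_of_isAffineHom G.hom
  let φ : CommRingCat.of K ⟶ Γ(G.left, ⊤) := Spec.preimage (G.left.isoSpec.inv ≫ G.hom)
  have hφ : G.left.isoSpec.hom ≫ Spec.map φ = G.hom := by rw [Spec.map_preimage, Iso.hom_inv_id_assoc]
  let L : Type u := Γ(G.left, ⊤)
  letI : Algebra K L := φ.hom.toAlgebra
  haveI : Algebra.Etale K L := by
    have h : Etale (Spec.map φ) := by rw [Spec.map_preimage]; infer_instance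
    rw [HasRingHomProperty.Spec_iff (P := @Etale)] at h
    exact h
  letI : Algebra R L := ((algebraMap K L).comp (algebraMap R K)).toAlgebra
  haveI : IsScalarTower R K L := IsScalarTower.of_algebraMap_eq fun _ => rfl
  let C := integralClosure R L
  let π : Spec (CommRingCat.of C) ⟶ Spec (CommRingCat.of R) := Spec.map (CommRingCat.ofHom (algebraMap R C))
  let j : G.left ⟶ Spec (CommRingCat.of C) :=
    G.left.isoSpec.hom ≫ Spec.map (CommRingCat.ofHom (algebraMap C L) : CommRingCat.of C ⟶ Γ(G.left, ⊤))
  obtain ⟨ι, _, Cp, iC, iA, hC, ⟨ε⟩⟩ := exists_prod_decomp R K L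
  letI := iC
  letI := iA
  haveI := fun i => (hC i).2.2
  haveI : Module.Finite R C := Module.Finite.equiv ε.symm.toLinearEquiv
  refine ⟨_, π, j, ?_, ?_, ?_, fun a => ?_⟩
  · rw [IsFinite.SpecMap_iff]; exact RingHom.finite_algebraMap.2 inferInstance
  · intro x
    let q := sigmaSpec (fun i => CommRingCat.of (Cp i)) ≫
      (Spec.map ε.toRingEquiv.toCommRingCatIso.hom : _ ⟶ Spec (CommRingCat.of C))
    haveI : IsIso q := inferInstance
    obtain ⟨w, rfl⟩ := q.surjective x
    obtain ⟨i, z, rfl⟩ : ∃ (i : ι) (z : Spec (CommRingCat.of (Cp i))),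
        Sigma.ι (fun i => Spec (CommRingCat.of (Cp i))) i z = w :=
      (sigmaOpenCover fun i : ι => Spec (CommRingCat.of (Cp i))).exists_eq w
    let ji := Sigma.ι (fun i => Spec (CommRingCat.of (Cp i))) i ≫ q
    haveI : IsOpenImmersion ji := inferInstance
    haveI := (hC i).1
    haveI := (hC i).2.1
    obtain ⟨h1, h2⟩ := NormalizationNormal.isNormalScheme_spec (Cp i) z
    let es := (asIso (ji.stalkMap z)).commRingCatIsoToRingEquiv
    show IsDomain ((Spec (CommRingCat.of C)).presheaf.stalk (ji z)) ∧
      IsIntegrallyClosed ((Spec (CommRingCat.of C)).presheaf.stalk (ji z))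
    exact ⟨es.toMulEquiv.isDomain _, IsIntegrallyClosed.of_equiv es.symm⟩
  · haveI := isLocalization_integralClosure R K L
    have hp : Algebra.IsPushout R C K L := Algebra.isPushout_of_isLocalization R⁰ K C L
    have h1 := isPullback_SpecMap_of_isPushout _ _ _ _ (CommRingCat.isPushout_of_isPushout R C K L)
    refine IsPullback.of_iso h1 G.left.isoSpec.symm (Iso.refl _) (Iso.refl _) (Iso.refl _) ?_ ?_ ?_ ?_
    · simp [j]
    · simp only [Iso.refl_hom, Category.comp_id, Iso.symm_hom]
      rw [← hφ, Iso.inv_hom_id_assoc]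
      rfl
    · simp only [Iso.refl_hom, Category.comp_id, Category.id_comp]; rfl
    · simp only [Iso.refl_hom, Category.comp_id, Category.id_comp]
  · let q : PrimeSpectrum C := j a
    refine (RingHom.FormallySmooth.respectsIso.arrow_mk_iso_iff
      (Scheme.arrowStalkMapSpecIso (CommRingCat.ofHom (algebraMap R C)) q)).2 ?_
    have hqR : q.asIdeal.comap (algebraMap R C) = ⊥ := by
      let b : PrimeSpectrum L := G.left.isoSpec.hom a
      show (b.asIdeal.comap (algebraMap C L)).comap (algebraMap R C) = ⊥
      rw [Ideal.comap_comap, ← IsScalarTower.algebraMap_eq, IsScalarTower.algebraMap_eq R K L, ← Ideal.comap_comap,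
        (Ideal.eq_bot_or_top _).resolve_right (Ideal.IsPrime.comap (algebraMap K L)).ne_top]
      exact Ideal.comap_bot_of_injective _ (IsFractionRing.injective R K)
    let p := (PrimeSpectrum.comap (algebraMap R C) q).asIdeal
    haveI : q.asIdeal.LiesOver p := ⟨rfl⟩
    letI := Localization.AtPrime.algebraOfLiesOver p q.asIdeal
    show (Localization.localRingHom p q.asIdeal (algebraMap R C) rfl).FormallySmooth
    haveI := isLocalization_integralClosure R K L
    haveI := formallySmooth_atPrime R K L C q.asIdeal hqR
    have : Algebra.FormallySmooth (Localization.AtPrime p) (Localization.AtPrime q.asIdeal) :=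
      Algebra.FormallySmooth.iff_restrictScalars.1 (inferInstance : Algebra.FormallySmooth R (Localization.AtPrime q.asIdeal))
    exact RingHom.formallySmooth_algebraMap.2 this

end Model

section Extension

variable {R : Type u} [CommRing R] [IsDedekindDomain R]

/-- Morphisms from the generic fibre of a smooth scheme into a finite scheme extend. -/
theorem exists_extension_genPt {T : Scheme.{u}} (π : T ⟶ Spec (CommRingCat.of R)) [IsFinite π]
    {Z : Scheme.{u}} (f : Z ⟶ Spec (CommRingCat.of R)) [Smooth f]
    (a : pullback f (Neron.genPt R) ⟶ T) (ha : a ≫ π = pullback.fst f (Neron.genPt R) ≫ f) :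
    ∃ g : Z ⟶ T, g ≫ π = f ∧ pullback.fst f (Neron.genPt R) ≫ g = a := by
  haveI : IsIntegrallyClosed R := inferInstance
  have hR : Pi1.IsNormalScheme (Spec (CommRingCat.of R)) := NormalizationNormal.isNormalScheme_spec R
  have hK : Pi1.IsNormalScheme (Spec (CommRingCat.of (FractionRing R))) :=
    NormalizationNormal.isNormalScheme_spec _
  have hZ := NormalImm.isNormalScheme_of_smooth f hR
  haveI : IsLocallyNoetherian Z := LocallyOfFiniteType.isLocallyNoetherian f
  choose W hzW hW using NormalImm.exists_integral_nbhd hZ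
  haveI : IsPreimmersion (Neron.genPt R) := IsPreimmersion.of_isLocalization R⁰
  have key : ∀ z : Z, ∃ g : (W z).toScheme ⟶ T, g ≫ π = (W z).ι ≫ f ∧
      ∀ {P : Scheme.{u}} [IsReduced P] (h : P ⟶ (W z).toScheme) (m : P ⟶ pullback f (Neron.genPt R)),
        h ≫ (W z).ι = m ≫ pullback.fst f (Neron.genPt R) → h ≫ g = m ≫ a := by
    intro z
    haveI := hW z
    let w := (W z).ι ≫ f
    let WK := pullback w (Neron.genPt R)
    let m₀ : WK ⟶ pullback f (Neron.genPt R) := pullback.lift (pullback.fst _ _ ≫ (W z).ι) (pullback.snd _ _)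
      (by rw [Category.assoc]; exact pullback.condition)
    let η := genericPoint (W z).toScheme
    have hwη : w η = genericPoint (Spec (CommRingCat.of R)) := by
      obtain ⟨η', hη', hwη'⟩ := Flat.generalizingMap w (a := η)
        ((genericPoint_spec (Spec (CommRingCat.of R))).specializes (Set.mem_univ (w η)))
      rwa [(hη'.antisymm (genericPoint_specializes η')).eq] at hwη'
    let e₀ := (W z).toScheme.fromSpecStalk η
    let φ := Spec.preimage (e₀ ≫ w)
    have hφ : Spec.map φ = e₀ ≫ w := Spec.map_preimage _
    have hinj : Function.Injective φ.hom := by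
      refine (injective_iff_map_eq_zero φ.hom).2 fun x hx => ?_
      have h1 : (Spec.map φ) (IsLocalRing.closedPoint (W z).toScheme.functionField) = w η := by
        rw [hφ, Scheme.Hom.comp_apply]
        exact congrArg w Scheme.fromSpecStalk_closedPoint
      rw [hwη, genericPoint_eq_bot_of_affine] at h1
      have h2 : (IsLocalRing.maximalIdeal (W z).toScheme.functionField).comap φ.hom = ⊥ :=
        congrArg PrimeSpectrum.asIdeal h1
      have : x ∈ (⊥ : Ideal R) := h2 ▸ (show φ.hom x ∈ IsLocalRing.maximalIdeal _ by rw [hx]; exact zero_mem _)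
      exact this
    let ρ : Spec (W z).toScheme.functionField ⟶ Spec (CommRingCat.of (FractionRing R)) :=
      Spec.map (CommRingCat.ofHom (IsFractionRing.lift (K := FractionRing R) hinj))
    have hρ : ρ ≫ Neron.genPt R = e₀ ≫ w := by
      rw [← hφ]
      refine (Spec.map_comp _ _).symm.trans (congrArg Spec.map ?_)
      ext x
      exact IsFractionRing.lift_algebraMap hinj x
    let r : Spec (W z).toScheme.functionField ⟶ WK := pullback.lift e₀ ρ hρ.symm
    let t : Spec (W z).toScheme.functionField ⟶ pullback w π := pullback.lift e₀ (r ≫ m₀ ≫ a)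
      (by simp only [Category.assoc, ha]
          rw [pullback.lift_fst_assoc, Category.assoc, pullback.lift_fst_assoc])
    obtain ⟨σ, hσ, hσt⟩ := SchTorsor.exists_section_of_normal (NormalImm.isNormalScheme_open hZ (W z))
      (pullback.fst w π) t (pullback.lift_fst _ _ _)
    have hg : (σ ≫ pullback.snd w π) ≫ π = w := by
      rw [Category.assoc, ← pullback.condition, ← Category.assoc, hσ, Category.id_comp]
    refine ⟨σ ≫ pullback.snd w π, hg, fun {P} _ h m hhm => ?_⟩
    haveI : IsReduced WK := HTopAwn.isReduced_of_isNormal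
      (NormalImm.isNormalScheme_of_smooth (pullback.snd w (Neron.genPt R)) hK)
    haveI : IsDominant r := by
      refine ⟨dense_iff_inter_open.2 fun O hO ⟨v, hv⟩ => ⟨r (IsLocalRing.closedPoint _), ?_, _, rfl⟩⟩
      have h1 : pullback.fst w (Neron.genPt R) (r (IsLocalRing.closedPoint _)) = η := by
        refine (congrArg (fun m : Spec (W z).toScheme.functionField ⟶ (W z).toScheme =>
          m (IsLocalRing.closedPoint _)) (pullback.lift_fst e₀ ρ hρ.symm)).trans ?_
        exact Scheme.fromSpecStalk_closedPoint
      refine (?_ : r (IsLocalRing.closedPoint _) ⤳ v).mem_open hO hv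
      rw [← (pullback.fst w (Neron.genPt R)).isEmbedding.isInducing.specializes_iff, h1]
      exact genericPoint_specializes _
    have e : pullback.fst w (Neron.genPt R) ≫ σ ≫ pullback.snd w π = m₀ ≫ a := by
      refine ext_of_isDominant_of_isSeparated π ?_ r ?_
      · rw [Category.assoc, hg, Category.assoc, ha, pullback.lift_fst_assoc, Category.assoc]
      · rw [pullback.lift_fst_assoc, reassoc_of% hσt]
        exact pullback.lift_snd _ _ _
    let k : P ⟶ WK := pullback.lift h (m ≫ pullback.snd _ _) (by
      rw [← Category.assoc h, hhm, Category.assoc, Category.assoc, pullback.condition])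
    have hk : k ≫ m₀ = m := by
      apply pullback.hom_ext
      · rw [Category.assoc, pullback.lift_fst, pullback.lift_fst_assoc]; exact hhm
      · rw [Category.assoc, pullback.lift_snd, pullback.lift_snd]
    rw [← hk, Category.assoc, ← e, pullback.lift_fst_assoc]
  choose g hg hga using key
  have hcov : TopologicalSpace.IsOpenCover W :=
    eq_top_iff.2 fun z _ => TopologicalSpace.Opens.mem_iSup.2 ⟨z, hzW z⟩
  let 𝒰 := Z.openCoverOfIsOpenCover W hcov
  haveI : IsReduced Z := HTopAwn.isReduced_of_isNormal hZ
  have hred : ∀ {P : Scheme.{u}} (c : P ⟶ Spec (CommRingCat.of R)) [Smooth c],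
      IsReduced (pullback c (Neron.genPt R)) := fun c _ => HTopAwn.isReduced_of_isNormal
        (NormalImm.isNormalScheme_of_smooth (pullback.snd c (Neron.genPt R)) hK)
  have hdom : ∀ {P : Scheme.{u}} (c : P ⟶ Spec (CommRingCat.of R)) [Flat c],
      IsDominant (pullback.fst c (Neron.genPt R)) := fun {P} c hc =>
    ⟨@denseRange_genericFibre_fst R _ _ (Over.mk c) hc⟩
  have hcompat : ∀ x y : Z, pullback.fst (W x).ι (W y).ι ≫ g x = pullback.snd (W x).ι (W y).ι ≫ g y := by
    intro x y
    let cι := pullback.fst (W x).ι (W y).ι ≫ (W x).ι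
    let c := cι ≫ f
    haveI : IsReduced (pullback (W x).ι (W y).ι) := isReduced_of_isOpenImmersion cι
    haveI := hdom c
    haveI := hred c
    refine ext_of_isDominant_of_isSeparated π ?_ (pullback.fst c (Neron.genPt R)) ?_
    · rw [Category.assoc, Category.assoc, hg, hg]
      exact pullback.condition_assoc _
    · let m : pullback c (Neron.genPt R) ⟶ pullback f (Neron.genPt R) :=
        pullback.lift (pullback.fst _ _ ≫ cι) (pullback.snd _ _) (by rw [Category.assoc]; exact pullback.condition)
      rw [← Category.assoc, ← Category.assoc, hga x _ m (by rw [Category.assoc, pullback.lift_fst]),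
        hga y _ m (by rw [Category.assoc, ← pullback.condition, pullback.lift_fst])]
  have hgl : ∀ i, (W i).ι ≫ 𝒰.glueMorphisms g hcompat = g i := fun i =>
    Scheme.Cover.ι_glueMorphisms 𝒰 g hcompat i
  refine ⟨𝒰.glueMorphisms g hcompat, 𝒰.hom_ext _ _ fun i => ?_, ?_⟩
  · exact (reassoc_of% (hgl i)) π |>.trans (hg i)
  · haveI := hred f
    refine Scheme.hom_ext_of_forall _ _ fun v => ?_
    let i := pullback.fst f (Neron.genPt R) v
    let O := pullback.fst f (Neron.genPt R) ⁻¹ᵁ W i
    refine ⟨O, hzW i, ?_⟩
    haveI : IsReduced O.toScheme := isReduced_of_isOpenImmersion O.ι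
    have h1 := morphismRestrict_ι (pullback.fst f (Neron.genPt R)) (W i)
    rw [← reassoc_of% h1, hgl]
    exact hga i _ O.ι h1

end Extension

end Groth.Agent.NeronMdl58.EtaleNeron
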