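import Groth.Prelude.Def_Neron
import Groth.Agent.NeronMdl58.PtsCriterion
import Groth.Agent.KrullAkiExt.Basic
import Mathlib.AlgebraicGeometry.Morphisms.QuasiFinite

/-!
# Flat schemes over Dedekind rings with quasi-finite generic fibre
-/

set_option autoImplicit false

universe u

open CategoryTheory Limits AlgebraicGeometry TensorProduct

namespace Groth.Agent.NeronMdl58

theorem quasiFinite_of_flat {R A : Type u} [CommRing R] [IsDedekindDomain R] [CommRing A] [Algebra R A]
    [Algebra.FiniteType R A] [Module.Flat R A]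
    (h0 : (PrimeSpectrum.comap (algebraMap R A) ⁻¹' {⟨⊥, Ideal.isPrime_bot⟩}).Finite)
    (hK : Finite (PrimeSpectrum (A ⊗[R] FractionRing R))) : Algebra.QuasiFinite R A := by
  classical
  let K := FractionRing R
  haveI : IsNoetherianRing A := Algebra.FiniteType.isNoetherianRing R A
  haveI : Module.Finite K (K ⊗[R] A) := by
    haveI : Finite (PrimeSpectrum (K ⊗[R] A)) :=
      Finite.of_equiv _ (PrimeSpectrum.comapEquiv (Algebra.TensorProduct.comm R A K).toRingEquiv).toEquiv
    haveI : IsJacobsonRing (K ⊗[R] A) := isJacobsonRing_of_finiteType (A := K)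
    rw [Module.finite_iff_isArtinianRing, isArtinianRing_iff_isNoetherianRing_krullDimLE_zero]
    exact ⟨Algebra.FiniteType.isNoetherianRing K _,
      (PrimeSpectrum.discreteTopology_iff_finite_and_krullDimLE_zero.mp inferInstance).right⟩
  rw [Algebra.QuasiFinite.iff_finite_comap_preimage_singleton]
  intro x
  by_cases hx : x.asIdeal = ⊥
  · obtain rfl : x = ⟨⊥, Ideal.isPrime_bot⟩ := PrimeSpectrum.ext hx
    exact h0
  obtain ⟨a, hax, ha⟩ := Submodule.exists_mem_ne_zero_of_ne_bot hx
  let T : Ideal A → Set (PrimeSpectrum A) := fun q => {P | q ≤ P.asIdeal ∧ algebraMap R A a ∈ P.asIdeal}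
  refine Set.Finite.subset (s := ⋃ q ∈ minimalPrimes A, T q)
    ((minimalPrimes.finite_of_isNoetherianRing A).biUnion fun q hq => ?_) fun P hP => ?_
  · haveI : q.IsPrime := hq.1.1
    have hnzd : ∀ r : R, r ≠ 0 → algebraMap R A r ∉ q := by
      intro r hr hrq
      have hreg : algebraMap R A r ∈ nonZeroDivisors A := by
        rw [mem_nonZeroDivisors_iff_right]
        intro z hz
        have hinj : Function.Injective fun y : A => r • y :=
          Module.Flat.isSMulRegular_of_nonZeroDivisors (mem_nonZeroDivisors_of_ne_zero hr)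
        exact hinj (a₁ := z) (a₂ := 0) (by simpa [Algebra.smul_def, mul_comm] using hz)
      exact Set.disjoint_right.1 (Ideal.disjoint_nonZeroDivisors_of_mem_minimalPrimes hq) hreg hrq
    let B := A ⧸ q
    let L := FractionRing B
    have hinjRL : Function.Injective (algebraMap R L) := by
      rw [injective_iff_map_eq_zero]
      intro r hr
      by_contra hr0
      rw [IsScalarTower.algebraMap_apply R B L] at hr
      exact hnzd r hr0 (Ideal.Quotient.eq_zero_iff_mem.1
        (IsFractionRing.injective B L (hr.trans (map_zero _).symm)))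
    haveI : FaithfulSMul R L := (faithfulSMul_iff_algebraMap_injective R L).2 hinjRL
    letI : Algebra K L := FractionRing.liftAlgebra R L
    haveI : IsScalarTower R K L := FractionRing.isScalarTower_liftAlgebra R L
    let f : K ⊗[R] A →ₐ[K] L := Algebra.TensorProduct.lift (Algebra.ofId K L)
      ((IsScalarTower.toAlgHom R B L).comp (Ideal.Quotient.mkₐ R q)) fun _ _ => Commute.all _ _
    have hfA : ∀ b : A, f (1 ⊗ₜ b) = algebraMap B L (Ideal.Quotient.mk q b) := fun b => by
      simp [f]; rfl
    haveI : Module.Finite K f.range :=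
      Module.Finite.of_surjective f.rangeRestrict.toLinearMap f.rangeRestrict_surjective
    have hrange : f.range = ⊤ := by
      refine eq_top_iff.2 fun z _ => ?_
      obtain ⟨b, c, hc, rfl⟩ := IsFractionRing.div_surjective (A := B) z
      obtain ⟨b, rfl⟩ := Ideal.Quotient.mk_surjective b
      obtain ⟨c', rfl⟩ := Ideal.Quotient.mk_surjective c
      have hb : algebraMap B L (Ideal.Quotient.mk q b) ∈ f.range := ⟨_, hfA b⟩
      have hc' : algebraMap B L (Ideal.Quotient.mk q c') ∈ f.range := ⟨_, hfA c'⟩
      have hne : algebraMap B L (Ideal.Quotient.mk q c') ≠ 0 :=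
        IsFractionRing.to_map_ne_zero_of_mem_nonZeroDivisors hc
      letI : Field f.range := fieldOfFiniteDimensional K f.range
      have hinv : (((⟨_, hc'⟩ : f.range)⁻¹ : f.range) : L) = (algebraMap B L (Ideal.Quotient.mk q c'))⁻¹ :=
        eq_inv_of_mul_eq_one_left (congrArg Subtype.val (inv_mul_cancel₀ (a := (⟨_, hc'⟩ : f.range))
          (fun h => hne (congrArg Subtype.val h))))
      rw [div_eq_mul_inv, ← hinv]
      exact f.range.mul_mem hb (SetLike.coe_mem _)
    haveI : FiniteDimensional K L := by
      haveI : Module.Finite K (⊤ : Subalgebra K L) := hrange ▸ ‹Module.Finite K f.range›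
      exact Module.Finite.equiv (Subalgebra.topEquiv (R := K) (A := L)).toLinearEquiv
    haveI : Ring.KrullDimLE 1 R := inferInstance
    let J : Ideal B := Ideal.span {algebraMap R B a}
    have hlen := KrullAkiExt.isArtinian_quotient (K := K) L B (IsFractionRing.injective B L) ha
      (J := J) (Ideal.subset_span rfl)
    haveI : IsArtinianRing (B ⧸ J) := by
      obtain ⟨-, hA⟩ := isFiniteLength_iff_isNoetherian_isArtinian.1 hlen
      exact isArtinian_of_tower R hA
    haveI : Finite (PrimeSpectrum (B ⧸ J)) := inferInstance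
    refine (Set.finite_range (fun Q : PrimeSpectrum (B ⧸ J) =>
      PrimeSpectrum.comap (Ideal.Quotient.mk q) (PrimeSpectrum.comap (Ideal.Quotient.mk J) Q))).subset ?_
    rintro P ⟨hqP, haP⟩
    obtain ⟨P', hP'⟩ : P ∈ Set.range (PrimeSpectrum.comap (Ideal.Quotient.mk q)) := by
      rw [_root_.range_comap_of_surjective _ _ Ideal.Quotient.mk_surjective, Ideal.mk_ker]
      exact hqP
    obtain ⟨Q, hQ⟩ : P' ∈ Set.range (PrimeSpectrum.comap (Ideal.Quotient.mk J)) := by
      rw [_root_.range_comap_of_surjective _ _ Ideal.Quotient.mk_surjective, Ideal.mk_ker]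
      change J ≤ P'.asIdeal
      rw [Ideal.span_singleton_le_iff_mem]
      have : Ideal.Quotient.mk q (algebraMap R A a) ∈ P'.asIdeal := by
        rw [← hP'] at haP
        exact haP
      exact this
    exact ⟨Q, by simp only [hQ]; exact hP'⟩
  · obtain ⟨q, hq, hqP⟩ := Ideal.exists_minimalPrimes_le (bot_le : (⊥ : Ideal A) ≤ P.asIdeal)
    refine Set.mem_biUnion (x := q) hq ⟨hqP, ?_⟩
    have h2 : Ideal.comap (algebraMap R A) P.asIdeal = x.asIdeal :=
      congrArg PrimeSpectrum.asIdeal (Set.mem_singleton_iff.1 hP)
    rw [← Ideal.mem_comap, h2]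
    exact hax

theorem locallyQuasiFinite_comp_of_flat (R : Type u) [CommRing R] [IsDedekindDomain R]
    (H : Over (Spec (CommRingCat.of R))) [Flat H.hom] [LocallyOfFiniteType H.hom]
    [hH : LocallyQuasiFinite ((Neron.genericFibre R).obj H).hom] (A : CommRingCat.{u})
    (c : Spec A ⟶ H.left) [IsOpenImmersion c] : LocallyQuasiFinite (c ≫ H.hom) := by
  obtain ⟨φ, hφ⟩ := Spec.map_surjective (c ≫ H.hom)
  let j := Neron.genPt R
  have h1 : LocallyOfFiniteType (Spec.map φ) := by rw [hφ]; infer_instance
  have h2 : Flat (Spec.map φ) := by rw [hφ]; infer_instance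
  have h3 : LocallyQuasiFinite (pullback.snd (Spec.map φ) j) := by
    rw [hφ]
    haveI : LocallyQuasiFinite (pullback.snd H.hom j) := hH
    rw [← pullbackRightPullbackFstIso_inv_snd_snd H.hom j c]
    infer_instance
  rw [← hφ]
  have hfin : Finite ↥(pullback (Spec.map φ) j) := by
    haveI : Unique (Spec (CommRingCat.of (FractionRing R))) :=
      inferInstanceAs (Unique (PrimeSpectrum (FractionRing R)))
    have := (pullback.snd (Spec.map φ) j).finite_preimage_singleton default
    rw [show ({default} : Set (Spec (CommRingCat.of (FractionRing R)))) = Set.univ from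
      Set.eq_univ_of_forall fun s => Subsingleton.elim s _, Set.preimage_univ] at this
    exact Set.finite_univ_iff.1 this
  rw [HasRingHomProperty.Spec_iff (P := @LocallyOfFiniteType)] at h1
  rw [HasRingHomProperty.Spec_iff (P := @Flat)] at h2
  rw [HasRingHomProperty.Spec_iff (P := @LocallyQuasiFinite)]
  letI : Algebra R _ := φ.hom.toAlgebra
  haveI : Algebra.FiniteType R _ := h1
  haveI : Module.Flat R _ := h2
  refine quasiFinite_of_flat ?_ ?_
  · refine (Set.finite_range (pullback.fst (Spec.map φ) j)).subset ?_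
    rw [Scheme.Pullback.range_fst]
    intro P hP
    exact ⟨IsLocalRing.closedPoint (FractionRing R), (genPt_apply _).trans
      ((genericPoint_eq_bot_of_affine _).trans (Set.mem_singleton_iff.1 hP).symm)⟩
  · exact Finite.of_equiv _ (pullbackSpecIso R _ (FractionRing R)).schemeIsoToHomeo.toEquiv

theorem locallyQuasiFinite_of_flat (R : Type u) [CommRing R] [IsDedekindDomain R]
    (H : Over (Spec (CommRingCat.of R))) [Flat H.hom] [LocallyOfFiniteType H.hom]
    [LocallyQuasiFinite ((Neron.genericFibre R).obj H).hom] : LocallyQuasiFinite H.hom := by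
  refine (HasRingHomProperty.iff_of_source_openCover (P := @LocallyQuasiFinite) H.left.affineCover).mpr
    fun i => ?_
  refine (HasRingHomProperty.iff_of_isAffine (P := @LocallyQuasiFinite)).1 ?_
  exact @locallyQuasiFinite_comp_of_flat R _ _ H _ _ _ _ (H.left.affineCover.f i)
    (H.left.affineCover.map_prop i)

end Groth.Agent.NeronMdl58
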