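import Groth.Agent.S2082
import Groth.Agent.FlatLoc6.RegCM
import Groth.Agent.DimFormula.Fibre
import Groth.Agent.DimFormula.Criteria
import Groth.Agent.DimFormula.QuasiSection
import Groth.Agent.FibDim.AffineSpaceFibre
import Groth.Agent.LA96.FibreStalk
import Groth.Agent.H23.Isogeny
import Mathlib.AlgebraicGeometry.Artinian

/-!
# Quasi-finite versus flat, for dominant morphisms between regular integral schemes
-/

set_option autoImplicit false
set_option linter.style.haveILetI false

universe u

open CategoryTheory AlgebraicGeometry IsLocalRing Topology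

namespace Groth.Agent.NeronMdl58

theorem isCohenMacaulayLocalRing_of_regular (S : Type u) [CommRing S] [IsRegularLocalRing S] :
    LocCoh.IsCohenMacaulayLocalRing S :=
  haveI := LC.gorenstein_of_isRegularLocalRing (R := S)
  LC.isCohenMacaulayLocalRing_of_gorenstein

variable {X Y : Scheme.{u}} (f : X ⟶ Y) [LocallyOfFiniteType f] [IsLocallyNoetherian Y]

/-- The dimension formula from the generic point of an integral scheme. -/
theorem codim_add_rd [IsIntegral X] [IsIntegral Y] (hgen : f (genericPoint X) = genericPoint Y) (x : X)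
    (hY : CAlg.IsUniversallyCatenary (Y.presheaf.stalk (f x))) :
    DimFormula.codim x + FibDim.rd f x = DimFormula.codim (f x) + FibDim.rd f (genericPoint X) := by
  haveI := LocallyOfFiniteType.isLocallyNoetherian f
  obtain ⟨η, hη, hmax, hcd⟩ := DimFormula.exists_maximal_cd_eq_codim x
  obtain ⟨ξ, hξ, hmax', hcd'⟩ := DimFormula.exists_maximal_cd_eq_codim (f x)
  obtain rfl := DimFormula.maximal_eq_genericPoint hmax
  obtain rfl := DimFormula.maximal_eq_genericPoint hmax'
  have h := (DimFormula.cd_formula f hη).2 hY
  rwa [hcd, hgen, hcd'] at h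

/-- The local ring of a fibre at a point where the morphism is quasi-finite is zero-dimensional. -/
theorem ringKrullDim_fiberStalk_eq_zero [LocallyQuasiFinite f] (x : X) :
    ringKrullDim (↑(X.presheaf.stalk x) ⧸ (maximalIdeal (Y.presheaf.stalk (f x))).map (f.stalkMap x).hom) = 0 := by
  haveI := DimFormula.isLocallyNoetherian_fiber f (f x)
  obtain ⟨e⟩ := LA96.exists_fiberStalkEquiv f x
  obtain ⟨η, hη, -, hcd⟩ := DimFormula.exists_maximal_cd_eq_codim (f.asFiber x)
  have h := DimFormula.cd_add_rd_of_fibre f (η := f.fiberι (f x) η) (x := x)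
    (by simpa using hη.map (f.fiberι (f x)).continuous) (FibDim.fiber_apply_fiberι f η)
  have e2 : DimFormula.cd (f.fiberι (f x) η) x = DimFormula.codim (f.asFiber x) := by
    rw [← hcd, ← DimFormula.cd_fiberι, Scheme.Hom.fiberι_asFiber]
  rw [FibDim.rd_eq_zero_of_quasiFinite, FibDim.rd_eq_zero_of_quasiFinite, e2] at h
  rw [ringKrullDim_eq_of_ringEquiv e]
  have h0 := DimFormula.ringKrullDim_stalk_fibre f x
  rw [DimFormula.fb, show DimFormula.codim (f.asFiber x) = 0 by omega] at h0
  exact_mod_cast h0

/-- A locally quasi-finite dominant morphism between regular integral schemes is flat. -/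
theorem flat_of_locallyQuasiFinite [IsIntegral X] [IsIntegral Y] [LocallyQuasiFinite f]
    (hX : ∀ x : X, IsRegularLocalRing (X.presheaf.stalk x))
    (hY : ∀ y : Y, IsRegularLocalRing (Y.presheaf.stalk y))
    (hcat : ∀ y : Y, CAlg.IsUniversallyCatenary (Y.presheaf.stalk y))
    (hgen : f (genericPoint X) = genericPoint Y) : Flat f := by
  haveI := LocallyOfFiniteType.isLocallyNoetherian f
  refine Flat.of_stalkMap _ fun x => ?_
  have h := codim_add_rd f hgen x (hcat (f x))
  rw [FibDim.rd_eq_zero_of_quasiFinite, FibDim.rd_eq_zero_of_quasiFinite] at h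
  have h0 := ringKrullDim_fiberStalk_eq_zero f x
  letI := (f.stalkMap x).hom.toAlgebra
  haveI : IsLocalHom (algebraMap (Y.presheaf.stalk (f x)) (X.presheaf.stalk x)) :=
    inferInstanceAs (IsLocalHom (f.stalkMap x).hom)
  haveI := hY (f x)
  haveI := hX x
  haveI := isCohenMacaulayLocalRing_of_regular (X.presheaf.stalk x)
  refine Groth.Agent.S2082.result ?_
  rw [DimFormula.ringKrullDim_stalk, DimFormula.ringKrullDim_stalk, RingHom.algebraMap_toAlgebra, h0, add_zero]
  simp only [Nat.cast_inj]
  omega

/-- A flat morphism between regular integral schemes with finite generic fibre is locally quasi-finite. -/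
theorem locallyQuasiFinite_of_flat_dominant [IsIntegral X] [IsIntegral Y] [Flat f]
    (hcat : ∀ y : Y, CAlg.IsUniversallyCatenary (Y.presheaf.stalk y))
    (hgen : f (genericPoint X) = genericPoint Y) (hrd : FibDim.rd f (genericPoint X) = 0) :
    LocallyQuasiFinite f := by
  haveI := LocallyOfFiniteType.isLocallyNoetherian f
  have hrd0 : ∀ x : X, FibDim.rd f x = 0 := fun x => by
    have h := codim_add_rd f hgen x (hcat (f x))
    have h1 := H23.Isogeny.ringKrullDim_le_of_flat (f.stalkMap x).hom (Flat.stalkMap f x)
    rw [DimFormula.ringKrullDim_stalk, DimFormula.ringKrullDim_stalk] at h1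
    have h2 : DimFormula.codim (f x) ≤ DimFormula.codim x := by exact_mod_cast h1
    omega
  rw [locallyQuasiFinite_iff_isDiscrete_preimage_singleton]
  intro y
  haveI := DimFormula.isLocallyNoetherian_fiber f y
  haveI : IsLocallyArtinian (f.fiber y) := IsLocallyArtinian.of_topologicalKrullDim_le_zero
    ((FibDim.topologicalKrullDim_fiber_le_iff f y 0).2 fun z _ => (hrd0 z).le)
  exact isDiscrete_iff_discreteTopology.2 (f.fiberHomeo y).discreteTopology

end Groth.Agent.NeronMdl58
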