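import Groth.Agent.NeronMdl58.IntModel
import Groth.Agent.NeronMdl58.QFFlat
import Groth.Agent.NeronMdl58.FlatQF
import Groth.Agent.GrpSchLib.KernelPair
import Groth.Agent.WeilExt.Dedekind
import Groth.Agent.H23.SetupLFT
import Groth.Agent.S0603
import Groth.Prelude.Def_SGA7IX

/-!
# Homomorphisms of Néron models extending an isogeny of abelian varieties
-/

set_option autoImplicit false
set_option linter.style.haveILetI false
set_option linter.unusedSectionVars false

universe u

open CategoryTheory Limits MonoidalCategory CartesianMonoidalCategory MonObj AlgebraicGeometry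

namespace Groth.Agent.NeronMdl58

/-- A homomorphism with locally quasi-finite kernel is locally quasi-finite. -/
theorem locallyQuasiFinite_of_kernel {S : Scheme.{u}} {G Q N : Over S} [GrpObj G] [GrpObj Q] (q : G ⟶ Q)
    [IsMonHom q] [LocallyOfFiniteType q.left] (i : N ⟶ G) (hN : AlgGrp.IsKernel i q)
    [LocallyQuasiFinite N.hom] [QuasiCompact N.hom] : LocallyQuasiFinite q.left := by
  obtain ⟨p, hp, hps⟩ := GrpSchLib.exists_kernelPair_iso i q hN
  have h1 : LocallyQuasiFinite (snd N G).left :=
    MorphismProperty.pullback_snd (P := @LocallyQuasiFinite) N.hom G.hom inferInstance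
  have h2 : QuasiCompact (snd N G).left :=
    MorphismProperty.pullback_snd (P := @QuasiCompact) N.hom G.hom inferInstance
  rw [← hps, MorphismProperty.cancel_left_of_respectsIso (P := @LocallyQuasiFinite)] at h1
  rw [← hps, MorphismProperty.cancel_left_of_respectsIso (P := @QuasiCompact)] at h2
  refine LocallyQuasiFinite.of_finite_preimage_singleton _ fun y => ?_
  rcases Set.eq_empty_or_nonempty (q.left ⁻¹' {y}) with h | ⟨x, hx⟩
  · simp [h]
  haveI := h1; haveI := h2
  refine (((pullback.snd q.left q.left).finite_preimage_singleton x).image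
    (pullback.fst q.left q.left)).subset fun x' hx' => ?_
  obtain ⟨z, hz1, hz2⟩ := Scheme.Pullback.exists_preimage_pullback x' x ((show q.left x' = y from hx').trans (show q.left x = y from hx).symm)
  exact ⟨z, hz2, hz1⟩

theorem isPreimmersion_genPt (R : Type u) [CommRing R] [IsDomain R] : IsPreimmersion (Neron.genPt R) :=
  IsPreimmersion.of_isLocalization (nonZeroDivisors R)

theorem isClosedImmersion_one {S : Scheme.{u}} (B : Over S) [GrpObj B] [IsSeparated B.hom] :
    IsClosedImmersion (η[B]).left := by
  have h : (η[B]).left ≫ B.hom = 𝟙 _ := Over.w (η[B])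
  haveI : IsClosedImmersion ((η[B]).left ≫ B.hom) := by rw [h]; exact inferInstanceAs (IsClosedImmersion (𝟙 S))
  exact IsClosedImmersion.of_comp (η[B]).left B.hom

section

variable (R : Type u) [CommRing R] [IsDedekindDomain R]

theorem isUniversallyCatenary_stalk_of_lft {X : Scheme.{u}} (f : X ⟶ Spec (CommRingCat.of R))
    [LocallyOfFiniteType f] (x : X) : CAlg.IsUniversallyCatenary (X.presheaf.stalk x) := by
  refine H23.SetupLFT.isUniversallyCatenary_stalk f x ?_
  haveI : LocCoh.IsCohenMacaulayRing R := FlatLoc6.isCM_of_isRegularRing R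
  letI : Algebra R ((Spec (CommRingCat.of R)).presheaf.stalk (f x)) := StructureSheaf.stalkAlgebra R (f x)
  haveI : IsLocalization.AtPrime ((Spec (CommRingCat.of R)).presheaf.stalk (f x)) (f x).asIdeal :=
    StructureSheaf.IsLocalization.to_stalk (CommRingCat.of R) (f x)
  exact DimFormula.isUniversallyCatenary_localization (Groth.Agent.S0603.result R) (f x).asIdeal.primeCompl _

variable {R}
variable {A B : Over (Spec (CommRingCat.of R))} [GrpObj A] [GrpObj B] [Smooth A.hom] [Smooth B.hom]
  [QuasiCompact A.hom] [IsSeparated B.hom]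
  [GeometricallyIntegral ((Neron.genericFibre R).obj A).hom] [GeometricallyIntegral ((Neron.genericFibre R).obj B).hom]
  (φ : A ⟶ B) [IsMonHom φ] (hφ : SGA7.IsIsogenyOver ((Neron.genericFibre R).map φ))

omit [GrpObj A] [GrpObj B] [Smooth B.hom] [IsSeparated B.hom] [GeometricallyIntegral ((Neron.genericFibre R).obj A).hom]
  [GeometricallyIntegral ((Neron.genericFibre R).obj B).hom] [IsMonHom φ] in
theorem locallyOfFiniteType_left : LocallyOfFiniteType φ.left := by
  haveI : LocallyOfFiniteType (φ.left ≫ B.hom) := by rw [Over.w φ]; infer_instance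
  exact locallyOfFiniteType_of_comp φ.left B.hom

omit [GrpObj A] [GrpObj B] [Smooth A.hom] [Smooth B.hom] [GeometricallyIntegral ((Neron.genericFibre R).obj A).hom]
  [GeometricallyIntegral ((Neron.genericFibre R).obj B).hom] [IsMonHom φ] in
theorem quasiCompact_left : QuasiCompact φ.left := by
  haveI : QuasiCompact (φ.left ≫ B.hom) := by rw [Over.w φ]; infer_instance
  exact QuasiCompact.of_comp φ.left B.hom

omit [GeometricallyIntegral ((Neron.genericFibre R).obj A).hom] [QuasiCompact A.hom]
  [GeometricallyIntegral ((Neron.genericFibre R).obj B).hom] [Smooth B.hom] [IsSeparated B.hom] in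
include hφ in
theorem locallyQuasiFinite_genericFibre_left : LocallyQuasiFinite ((Neron.genericFibre R).map φ).left := by
  let q := (Neron.genericFibre R).map φ
  haveI : LocallyOfFiniteType ((Neron.genericFibre R).obj A).hom :=
    MorphismProperty.pullback_snd (P := @LocallyOfFiniteType) A.hom _ inferInstance
  haveI : LocallyOfFiniteType (q.left ≫ ((Neron.genericFibre R).obj B).hom) := by rw [Over.w q]; infer_instance
  haveI : LocallyOfFiniteType q.left := locallyOfFiniteType_of_comp q.left ((Neron.genericFibre R).obj B).hom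
  let N := pullback q (η[(Neron.genericFibre R).obj B])
  have hN : AlgGrp.IsKernel (pullback.fst q η) q := by
    have h := IsPullback.of_hasPullback q (η[(Neron.genericFibre R).obj B])
    rwa [show pullback.snd q η = toUnit N from toUnit_unique _ _] at h
  haveI := hφ.2 N _ hN
  exact locallyQuasiFinite_of_kernel q (pullback.fst q η) hN

omit [GrpObj A] [QuasiCompact A.hom] [IsSeparated B.hom] [IsMonHom φ] in
include hφ in
theorem genericPoint_props [IsIntegral A.left] [IsIntegral B.left] [LocallyOfFiniteType φ.left]
    (hq : LocallyQuasiFinite ((Neron.genericFibre R).map φ).left) :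
    φ.left (genericPoint A.left) = genericPoint B.left ∧ FibDim.rd φ.left (genericPoint A.left) = 0 := by
  haveI := isPreimmersion_genPt R
  haveI : IsIntegral ((Neron.genericFibre R).obj A).left :=
    GeometricallyIntegral.isIntegral_of_subsingleton ((Neron.genericFibre R).obj A).hom
  haveI : IsIntegral ((Neron.genericFibre R).obj B).left :=
    GeometricallyIntegral.isIntegral_of_subsingleton ((Neron.genericFibre R).obj B).hom
  let q := (Neron.genericFibre R).map φ
  let pA : ((Neron.genericFibre R).obj A).left ⟶ A.left := pullback.fst A.hom (Neron.genPt R)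
  let pB : ((Neron.genericFibre R).obj B).left ⟶ B.left := pullback.fst B.hom (Neron.genPt R)
  have hsq : ∀ a, pB (q.left a) = φ.left (pA a) := fun a => by
    rw [← Scheme.Hom.comp_apply, ← Scheme.Hom.comp_apply]
    exact app_eq (pullback.lift_fst _ _ _) a
  haveI : Surjective q.left := hφ.1
  have hq0 : q.left (genericPoint _) = genericPoint _ :=
    ((genericPoint_spec _).specializes (Set.mem_univ _)).antisymm (by
      obtain ⟨a, ha⟩ := q.left.surjective (genericPoint ((Neron.genericFibre R).obj B).left)
      rw [← ha]
      exact ((genericPoint_spec _).specializes (Set.mem_univ a)).map q.left.continuous) |>.eq |>.symm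
  have hη : φ.left (genericPoint A.left) = genericPoint B.left := by
    rw [← fst_genericPoint R A, ← fst_genericPoint R B]
    exact (hsq _).symm.trans (congrArg pB hq0)
  refine ⟨hη, DimFormula.rd_eq_zero_of_closed φ.left fun x' hx' hsp => ?_⟩
  obtain ⟨a', ha'⟩ : x' ∈ Set.range pA := by
    rw [range_genericFibre_fst]
    show A.hom x' = genericPoint _
    rw [← Over.w φ, Scheme.Hom.comp_apply, hx', hη, hom_genericPoint R B]
  have ha : pA (genericPoint ((Neron.genericFibre R).obj A).left) = genericPoint A.left := fst_genericPoint R A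
  rw [← ha'] at hsp hx' ⊢
  rw [← ha] at hsp hx' ⊢
  have hqa : q.left a' = q.left (genericPoint _) := pB.injective (by rw [hsq, hsq]; exact hx')
  have hs := pA.isEmbedding.isInducing.specializes_iff.1 hsp
  haveI := hq
  haveI : DiscreteTopology ↥(q.left ⁻¹' {q.left (genericPoint _)}) :=
    isDiscrete_iff_discreteTopology.1 (q.left.isDiscrete_preimage_singleton _)
  have h : (⟨genericPoint _, rfl⟩ : ↥(q.left ⁻¹' {q.left (genericPoint _)})) ⤳ ⟨a', hqa⟩ :=
    Topology.IsInducing.subtypeVal.specializes_iff.1 hs
  exact congrArg pA (congrArg Subtype.val h.eq).symm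

include hφ in
theorem locallyQuasiFinite_iff_flat : LocallyQuasiFinite φ.left ↔ Flat φ.left := by
  haveI := isIntegral_of_smooth R A
  haveI := isIntegral_of_smooth R B
  haveI := locallyOfFiniteType_left φ
  haveI : IsLocallyNoetherian B.left := LocallyOfFiniteType.isLocallyNoetherian B.hom
  obtain ⟨hgen, hrd⟩ := genericPoint_props φ hφ (locallyQuasiFinite_genericFibre_left φ hφ)
  have hreg : ∀ {X : Scheme.{u}} (f : X ⟶ Spec (CommRingCat.of R)) [Smooth f] (x : X),
      IsRegularLocalRing (X.presheaf.stalk x) := fun f _ x =>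
    WeilExt.isRegularLocalRing_stalk (WeilExt.isRegularLocalRing_stalk_spec) f x
  exact ⟨fun _ => flat_of_locallyQuasiFinite φ.left (hreg A.hom) (hreg B.hom)
      (isUniversallyCatenary_stalk_of_lft R B.hom) hgen,
    fun _ => locallyQuasiFinite_of_flat_dominant φ.left (isUniversallyCatenary_stalk_of_lft R B.hom) hgen hrd⟩

end

end Groth.Agent.NeronMdl58
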