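import Groth.Agent.NormFieldX.Basic
import Mathlib.RingTheory.DedekindDomain.IntegralClosure
import Mathlib.RingTheory.Unramified.Field
import Mathlib.RingTheory.Etale.Basic
import Mathlib.RingTheory.Flat.TorsionFree
import Mathlib.RingTheory.Smooth.Flat

/-! Algebra for finiteness and normality of normalizations in etale algebras. -/

set_option autoImplicit false
set_option linter.style.haveILetI false

universe u

open scoped nonZeroDivisors

namespace Groth.Agent.NeronMdl58.NormalizationAlg

/-- Integral closure of a normal noetherian domain in an etale domain extension is finite. -/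
theorem finite_integralClosure_of_etale (R A : Type u) [CommRing R] [IsDomain R] [IsNoetherianRing R]
    [IsIntegrallyClosed R] [CommRing A] [IsDomain A] [Algebra R A] [Algebra.Etale R A] :
    Module.Finite R (integralClosure R A) := by
  have hinj : Function.Injective (algebraMap R A) := by
    refine (injective_iff_map_eq_zero _).2 fun r hr => ?_
    by_contra hr0
    have h : (r : R) • (1 : A) = r • (0 : A) := by rw [smul_zero, Algebra.smul_def, hr, zero_mul]
    exact one_ne_zero (smul_right_injective A hr0 h)
  let K := FractionRing R
  let M := Algebra.algebraMapSubmonoid A R⁰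
  let L := Localization M
  have hM : M ≤ A⁰ := by
    rintro _ ⟨r, hr, rfl⟩
    exact mem_nonZeroDivisors_of_ne_zero fun h => nonZeroDivisors.ne_zero hr (hinj (h.trans (map_zero _).symm))
  haveI : IsDomain L := IsLocalization.isDomain_localization hM
  letI : Algebra K L := localizationAlgebra R⁰ A
  haveI : IsScalarTower R K L :=
    IsScalarTower.of_algebraMap_eq' (IsLocalization.map_comp _).symm
  haveI : Algebra.FormallyUnramified A L := Algebra.FormallyUnramified.of_isLocalization M
  haveI : Algebra.FormallyUnramified R L := Algebra.FormallyUnramified.comp R A L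
  haveI : Algebra.FormallyUnramified K L := Algebra.FormallyUnramified.of_restrictScalars R K L
  haveI : Algebra.EssFiniteType A L := Algebra.EssFiniteType.of_isLocalization L M
  haveI : Algebra.EssFiniteType R L := Algebra.EssFiniteType.comp R A L
  haveI : Algebra.EssFiniteType K L := Algebra.EssFiniteType.of_comp R K L
  haveI : Module.Finite K L := Algebra.FormallyUnramified.finite_of_free K L
  letI : Field L := (isField_of_isIntegral_of_isField' (R := K) (Field.toIsField K)).toField
  haveI : Algebra.IsSeparable K L := Algebra.FormallyUnramified.isSeparable K L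
  haveI : Module.Finite R (integralClosure R L) := IsIntegralClosure.finite R K L _
  let j : integralClosure R A →ₐ[R] integralClosure R L := (IsScalarTower.toAlgHom R A L).mapIntegralClosure
  refine Module.Finite.of_injective j.toLinearMap fun a b h => Subtype.ext ?_
  exact IsLocalization.injective L hM (congrArg Subtype.val h)

/-- Integral closures in integrally closed domains are integrally closed. -/
theorem isIntegrallyClosed_integralClosure (R B : Type u) [CommRing R] [CommRing B] [IsDomain B]
    [IsIntegrallyClosed B] [Algebra R B] : IsIntegrallyClosed (integralClosure R B) := by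
  let K := FractionRing B
  let j : B →ₐ[R] K := IsScalarTower.toAlgHom R B K
  have hbij : Function.Bijective j.mapIntegralClosure := by
    refine ⟨fun a b h => Subtype.ext (IsFractionRing.injective B K (congrArg Subtype.val h)), fun c => ?_⟩
    obtain ⟨b, hb⟩ := IsIntegrallyClosed.isIntegral_iff.1 ((show IsIntegral R (c : K) from c.2).tower_top (A := B))
    exact ⟨⟨b, (isIntegral_algHom_iff j (IsFractionRing.injective B K)).1
      (show IsIntegral R (algebraMap B K b) from hb ▸ c.2)⟩, Subtype.ext hb⟩
  haveI := NormFieldX.isIntegrallyClosed_integralClosure R K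
  exact IsIntegrallyClosed.of_equiv (AlgEquiv.ofBijective _ hbij).symm.toRingEquiv

/-- The integral closure in a finite product is the product of the integral closures. -/
theorem exists_prod_equiv {ι : Type u} [Finite ι] (R B : Type u) [CommRing R] [CommRing B] [Algebra R B]
    (Bi : ι → Type u) [∀ i, CommRing (Bi i)] [∀ i, Algebra R (Bi i)] (φ : B →ₐ[R] ∀ i, Bi i)
    (hφ : Function.Bijective φ) :
    Nonempty (integralClosure R B ≃ₐ[R] ∀ i, integralClosure R (Bi i)) := by
  classical
  let := Fintype.ofFinite ι
  let ψ : integralClosure R B →ₐ[R] ∀ i, integralClosure R (Bi i) :=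
    AlgHom.pi fun i => ((Pi.evalAlgHom R Bi i).comp φ).mapIntegralClosure
  refine ⟨AlgEquiv.ofBijective ψ ⟨fun a b h => Subtype.ext (hφ.1 (funext fun i => ?_)), fun c => ?_⟩⟩
  · exact congrArg Subtype.val (congrFun h i)
  · obtain ⟨b, hb⟩ := hφ.2 fun i => (c i : Bi i)
    have hb' : IsIntegral R b := by
      choose P hP hPc using fun i => (c i).2
      refine ⟨∏ i, P i, Polynomial.monic_prod_of_monic _ _ fun i _ => hP i, hφ.1 (funext fun i => ?_)⟩
      have e : φ (Polynomial.eval₂ (algebraMap R B) b (∏ i, P i)) i
          = Polynomial.eval₂ (algebraMap R (Bi i)) (φ b i) (∏ i, P i) := by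
        rw [← Polynomial.aeval_def, ← Polynomial.aeval_algHom_apply φ, ← Polynomial.aeval_def]
        exact (Polynomial.aeval_algHom_apply (Pi.evalAlgHom R Bi i) _ _).symm
      rw [e, map_zero, Pi.zero_apply, congrFun hb i]
      rw [Polynomial.eval₂_finsetProd]
      exact Finset.prod_eq_zero (Finset.mem_univ i) (hPc i)
    exact ⟨⟨b, hb'⟩, funext fun i => Subtype.ext (congrFun hb i)⟩

end Groth.Agent.NeronMdl58.NormalizationAlg
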