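import Groth.Agent.S2763
import Groth.Agent.S4112
import Groth.Agent.H23.MulEtale
import Groth.Agent.GrpSchLib.HomFibre

/-!
# Multiplication by an invertible integer on a smooth commutative group scheme is étale
-/

set_option autoImplicit false
set_option linter.style.haveILetI false

universe u

open CategoryTheory Limits AlgebraicGeometry MonoidalCategory CartesianMonoidalCategory MonObj

namespace Groth.Agent.NeronMdl58

theorem etale_pow_of_smooth {S : Scheme.{u}} (G : Over S) [GrpObj G] [IsCommMonObj G] [Smooth G.hom]
    [QuasiCompact G.hom] (n : ℕ) (hn : IsUnit (n : Γ(S, ⊤))) : Etale (𝟙 G ^ n : G ⟶ G).left := by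
  refine (S2763.result G.hom G.hom (𝟙 G ^ n : G ⟶ G).left (Over.w _)).2 fun s => ?_
  letI : GrpObj ((Over.pullback (S.fromSpecResidueField s)).obj G) := Functor.grpObjObj
  haveI : IsCommMonObj ((Over.pullback (S.fromSpecResidueField s)).obj G) := Functor.isCommMonObj_obj
  haveI : LocallyOfFiniteType ((Over.pullback (S.fromSpecResidueField s)).obj G).hom :=
    MorphismProperty.pullback_snd (P := @LocallyOfFiniteType) G.hom _ inferInstance
  haveI : QuasiCompact ((Over.pullback (S.fromSpecResidueField s)).obj G).hom :=
    MorphismProperty.pullback_snd (P := @QuasiCompact) G.hom _ inferInstance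
  have hnk : (n : S.residueField s) ≠ 0 := by
    have h := hn.map ((S.fromSpecResidueField s).appTop ≫ (Scheme.ΓSpecIso _).hom).hom
    rw [map_natCast] at h
    exact h.ne_zero
  have h := S4112.result (S.residueField s) ((Over.pullback (S.fromSpecResidueField s)).obj G) n hnk
  have e := H23.MulEtale.map_pow (X := G) (S.fromSpecResidueField s) n
  rw [← e] at h
  have hp := (GrpSchLib.HomFibre.map_isPullback (𝟙 G ^ n : G ⟶ G) (S.fromSpecResidueField s)).flip
  show Etale (pullback.snd (𝟙 G ^ n : G ⟶ G).left (pullback.fst G.hom (S.fromSpecResidueField s)))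
  rw [← hp.flip.isoPullback_inv_snd]
  infer_instance

end Groth.Agent.NeronMdl58
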