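import Groth.Agent.EtPBC63.RedFib.SmoothPt
import Mathlib.AlgebraicGeometry.Morphisms.Smooth
import Mathlib.AlgebraicGeometry.Morphisms.Etale
import Mathlib.RingTheory.Jacobson.Ring
import Mathlib.RingTheory.LocalRing.ResidueField.Fiber

/-!
# Etale quasi-sections through fibre-closed points
-/

set_option autoImplicit false
set_option linter.style.haveILetI false

universe u

open CategoryTheory Limits AlgebraicGeometry TensorProduct

namespace Groth.Agent.NeronMdl58.QuasiSec

/-- Integers are units in the rings of sections of a scheme over a field of characteristic zero. -/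
theorem isUnit_natCast {k : Type u} [Field k] [CharZero k] {S : Scheme.{u}} (σ : S ⟶ Spec (CommRingCat.of k))
    (U : S.Opens) (n : ℕ) (hn : n ≠ 0) : IsUnit (n : Γ(S, U)) := by
  let φ : k →+* Γ(S, U) :=
    ((Scheme.ΓSpecIso (CommRingCat.of k)).inv ≫ σ.appLE ⊤ U le_top).hom
  rw [← map_natCast φ n]
  exact (IsUnit.mk0 _ (Nat.cast_ne_zero.2 hn)).map φ

/-- A smooth morphism has an etale quasi-section meeting any nonempty locally closed set. -/
theorem exists_section_meeting {k : Type u} [Field k] [CharZero k] {S Z : Scheme.{u}}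
    (σ : S ⟶ Spec (CommRingCat.of k)) (f : Z ⟶ S) [Smooth f] {D : Set Z} (hD : IsLocallyClosed D)
    (hne : D.Nonempty) :
    ∃ (S' : Scheme.{u}) (g : S' ⟶ S) (h : S' ⟶ Z), Etale g ∧ h ≫ f = g ∧ ∃ s', h s' ∈ D := by
  obtain ⟨z, hz⟩ := hne
  obtain ⟨U, hU, V, hV, hzV, e, hss⟩ := Smooth.exists_isStandardSmooth f z
  let R := Γ(S, U)
  let A := Γ(Z, V)
  letI : Algebra R A := (f.appLE U V e).hom.toAlgebra
  have : Algebra.IsStandardSmooth R A := hss
  let q := hV.primeIdealOf ⟨z, hzV⟩
  let p : PrimeSpectrum R := PrimeSpectrum.comap (algebraMap R A) q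
  let F := p.asIdeal.Fiber A
  let c : PrimeSpectrum F → PrimeSpectrum A :=
    PrimeSpectrum.comap (Algebra.TensorProduct.includeRight : A →ₐ[R] F).toRingHom
  let D' : Set (PrimeSpectrum A) := hV.fromSpec ⁻¹' D
  have hqD : q ∈ D' := by
    show hV.fromSpec q ∈ D
    rw [hV.fromSpec_primeIdealOf]; exact hz
  let E : Set (PrimeSpectrum F) := c ⁻¹' D'
  have hEne : E.Nonempty := by
    refine ⟨PrimeSpectrum.preimageEquivFiber R A p ⟨q, rfl⟩, ?_⟩
    have := congrArg Subtype.val
      ((PrimeSpectrum.preimageEquivFiber R A p).symm_apply_apply ⟨q, rfl⟩)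
    show c _ ∈ D'
    have hc : c (PrimeSpectrum.preimageEquivFiber R A p ⟨q, rfl⟩) = q := this
    rw [hc]; exact hqD
  have hEl : IsLocallyClosed E :=
    (hD.preimage hV.fromSpec.continuous).preimage (PrimeSpectrum.continuous_comap _)
  haveI : Algebra.FiniteType p.asIdeal.ResidueField F := inferInstance
  haveI : IsJacobsonRing F := isJacobsonRing_of_finiteType (A := p.asIdeal.ResidueField)
  obtain ⟨m, hmE, hmcl⟩ := nonempty_inter_closedPoints hEne hEl
  haveI hm : m.asIdeal.IsMaximal := (PrimeSpectrum.isClosed_singleton_iff_isMaximal m).1 hmcl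
  letI : Field (F ⧸ m.asIdeal) := Ideal.Quotient.field _
  haveI : Module.Finite p.asIdeal.ResidueField (F ⧸ m.asIdeal) :=
    finite_of_finite_type_of_isJacobsonRing _ _
  haveI : CharZero p.asIdeal.ResidueField := by
    refine charZero_of_inj_zero fun n hn => ?_
    by_contra h0
    have hu := (isUnit_natCast σ U n h0).map (algebraMap R p.asIdeal.ResidueField)
    rw [map_natCast, hn] at hu
    exact hu.ne_zero rfl
  let a : A →ₐ[R] F ⧸ m.asIdeal :=
    ((Ideal.Quotient.mkₐ p.asIdeal.ResidueField m.asIdeal).restrictScalars R).comp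
      Algebra.TensorProduct.includeRight
  obtain ⟨R', _, _, het, χ, α, hα⟩ :=
    EtPBC63.RedFib.exists_etale_section_pt R A p.asIdeal (F ⧸ m.asIdeal) a
  let P : PrimeSpectrum R' := ⟨RingHom.ker χ.toRingHom, RingHom.ker_isPrime _⟩
  have hP : PrimeSpectrum.comap α.toRingHom P = c m := by
    refine PrimeSpectrum.ext (Ideal.ext fun x => ?_)
    show χ (α x) = 0 ↔ Algebra.TensorProduct.includeRight x ∈ m.asIdeal
    rw [← AlgHom.comp_apply, hα]
    exact Ideal.Quotient.eq_zero_iff_mem
  let τ : Spec (CommRingCat.of R') ⟶ Spec Γ(S, U) :=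
    Spec.map (CommRingCat.ofHom (algebraMap R R'))
  have : Etale τ := by
    rw [HasRingHomProperty.Spec_iff (P := @Etale), CommRingCat.hom_ofHom, RingHom.etale_algebraMap]
    exact het
  refine ⟨Spec (CommRingCat.of R'), τ ≫ hU.fromSpec,
    Spec.map (CommRingCat.ofHom α.toRingHom) ≫ hV.fromSpec, inferInstance, ?_, P, ?_⟩
  · rw [Category.assoc, ← IsAffineOpen.SpecMap_appLE_fromSpec f hU hV e, ← Spec.map_comp_assoc]
    congr 2
    ext r
    exact α.commutes r
  · show hV.fromSpec (PrimeSpectrum.comap α.toRingHom P) ∈ D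
    rw [hP]; exact hmE

/-- A locally closed set containing the image of every etale quasi-section is everything. -/
theorem eq_univ_of_sections {k : Type u} [Field k] [CharZero k] {S Z : Scheme.{u}}
    (σ : S ⟶ Spec (CommRingCat.of k)) (f : Z ⟶ S) [Smooth f] {L : Set Z} (hL : IsLocallyClosed L)
    (h : ∀ (S' : Scheme.{u}) (g : S' ⟶ S) (s : S' ⟶ Z), Etale g → s ≫ f = g → ∀ x, s x ∈ L) :
    L = Set.univ := by
  obtain ⟨O, C, hO, hC, rfl⟩ := hL
  have key : ∀ D : Set Z, IsLocallyClosed D → D ⊆ (O ∩ C)ᶜ → D = ∅ := by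
    intro D hD hsub
    by_contra hne
    obtain ⟨S', g, s, hg, hs, x, hx⟩ :=
      exists_section_meeting σ f hD (Set.nonempty_iff_ne_empty.2 hne)
    exact hsub hx (h S' g s hg hs x)
  have h1 : Oᶜ = ∅ := key _ hO.isClosed_compl.isLocallyClosed fun x hx hx' => hx hx'.1
  have h2 : Cᶜ = ∅ := key _ hC.isOpen_compl.isLocallyClosed fun x hx hx' => hx hx'.2
  rw [Set.compl_empty_iff] at h1 h2
  rw [h1, h2, Set.inter_self]

end Groth.Agent.NeronMdl58.QuasiSec
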