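import Groth.Agent.NeronMdl58.NormalImm
import Groth.Agent.SchTorsor.NormalExt
import Groth.Agent.SrcDescent.LocalAtSource
import Groth.Agent.SchDenseLib.Hom
import Groth.Agent.SchDenseLib.FlatNoeth
import Groth.Agent.AlgSpDec.EtCompact

/-!
# Maps from smooth schemes into normal finite schemes land in the smooth locus
-/

set_option autoImplicit false
set_option linter.style.haveILetI false

universe u

open CategoryTheory Limits AlgebraicGeometry

namespace Groth.Agent.NeronMdl58.SmoothLocusNMP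

variable {S T Z : Scheme.{u}} [IsLocallyNoetherian S] (π : T ⟶ S) [IsFinite π] (f : Z ⟶ S) [Smooth f]

/-- A morphism over `S` from a smooth normal scheme to a normal finite scheme lands in the smooth locus. -/
theorem mem_smoothLocus_of_hom [LocallyOfFinitePresentation π] (hT : Pi1.IsNormalScheme T)
    (hZ : Pi1.IsNormalScheme Z) (g : Z ⟶ T) (hg : g ≫ π = f) (z : Z) : g z ∈ π.smoothLocus := by
  haveI : IsLocallyNoetherian Z := LocallyOfFiniteType.isLocallyNoetherian f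
  haveI : IsLocallyNoetherian T := LocallyOfFiniteType.isLocallyNoetherian π
  let P := pullback f π
  let p₁ : P ⟶ Z := pullback.fst f π
  let p₂ : P ⟶ T := pullback.snd f π
  haveI : IsFinite p₁ := inferInstanceAs (IsFinite (pullback.fst f π))
  haveI : Smooth p₂ := inferInstanceAs (Smooth (pullback.snd f π))
  haveI : IsLocallyNoetherian P := LocallyOfFiniteType.isLocallyNoetherian p₁
  have hP : Pi1.IsNormalScheme P := NormalImm.isNormalScheme_of_smooth p₂ hT
  let σ : Z ⟶ P := pullback.lift (𝟙 Z) g (by rw [Category.id_comp, hg])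
  have hσ₁ : σ ≫ p₁ = 𝟙 Z := pullback.lift_fst _ _ _
  have hσ₂ : σ ≫ p₂ = g := pullback.lift_snd _ _ _
  have hσa : ∀ w, p₁ (σ w) = w := fun w => by rw [← Scheme.Hom.comp_apply, hσ₁]; rfl
  obtain ⟨W', hxW', hW'⟩ := NormalImm.exists_integral_nbhd hP (σ z)
  obtain ⟨W₁, hzW₁, hW₁⟩ := NormalImm.exists_integral_nbhd hZ z
  let W : Z.Opens := W₁ ⊓ σ ⁻¹ᵁ W'
  let V : P.Opens := W' ⊓ p₁ ⁻¹ᵁ W
  haveI : Nonempty W.toScheme := ⟨⟨z, hzW₁, hxW'⟩⟩
  haveI : Nonempty V.toScheme := ⟨⟨σ z, hxW', by show p₁ (σ z) ∈ W; rw [hσa]; exact ⟨hzW₁, hxW'⟩⟩⟩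
  haveI : IsIntegral W.toScheme := isIntegral_of_isOpenImmersion (Z.homOfLE (inf_le_left : W ≤ W₁))
  haveI : IsIntegral V.toScheme := isIntegral_of_isOpenImmersion (P.homOfLE (inf_le_left : V ≤ W'))
  let q : V.toScheme ⟶ W.toScheme := IsOpenImmersion.lift W.ι (V.ι ≫ p₁) (by
    rw [Scheme.Opens.range_ι]; rintro _ ⟨a, rfl⟩; exact a.2.2)
  have hq : q ≫ W.ι = V.ι ≫ p₁ := IsOpenImmersion.lift_fac _ _ _
  let s : W.toScheme ⟶ V.toScheme := IsOpenImmersion.lift V.ι (W.ι ≫ σ) (by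
    rw [Scheme.Opens.range_ι]; rintro _ ⟨a, rfl⟩
    exact ⟨a.2.2, show p₁ (σ (W.ι a)) ∈ W by rw [hσa]; exact a.2⟩)
  have hs : s ≫ V.ι = W.ι ≫ σ := IsOpenImmersion.lift_fac _ _ _
  have hsq : s ≫ q = 𝟙 _ := by
    rw [← cancel_mono W.ι, Category.assoc, hq, reassoc_of% hs, hσ₁, Category.comp_id, Category.id_comp]
  haveI : IsSeparated q := by
    haveI : IsSeparated (q ≫ W.ι) := by rw [hq]; infer_instance
    exact IsSeparated.of_comp q W.ι
  haveI : IsClosedImmersion s := by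
    haveI : IsClosedImmersion (s ≫ q) := by rw [hsq]; infer_instance
    exact IsClosedImmersion.of_comp s q
  have hgen : s (genericPoint W.toScheme) = genericPoint V.toScheme := by
    set a := genericPoint V.toScheme
    set b := genericPoint W.toScheme
    have h1 : a ⤳ s b := genericPoint_specializes _
    have h3 : q (s b) = b := by rw [← Scheme.Hom.comp_apply, hsq]; rfl
    have h2 : q a ⤳ b := h3 ▸ h1.map q.continuous
    have h4 : q a = b := (h2.antisymm (genericPoint_specializes _)).eq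
    have h5 : p₁ (V.ι a) = p₁ (V.ι (s b)) := by
      rw [← Scheme.Hom.comp_apply, ← Scheme.Hom.comp_apply, ← hq, Scheme.Hom.comp_apply,
        Scheme.Hom.comp_apply, h4, h3]
    exact (V.ι.isOpenEmbedding.injective
      (AlgSpDec.eq_of_specializes_of_isIntegralHom p₁ (h1.map V.ι.continuous) h5)).symm
  haveI : Surjective s := by
    refine ⟨fun v => ?_⟩
    exact (s.isClosedEmbedding.isClosed_range.closure_subset_iff.2
      (Set.singleton_subset_iff.2 ⟨_, hgen⟩)) (specializes_iff_mem_closure.1 (genericPoint_specializes v))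
  haveI : IsIso s := isIso_of_isClosedImmersion_of_surjective s
  haveI : IsIso q := by
    rw [show q = inv s from (IsIso.inv_eq_of_hom_inv_id hsq).symm]; infer_instance
  let e := V.ι ≫ p₂
  let Q : T.Opens := ⟨Set.range e, e.isOpenMap.isOpen_range⟩
  let e' : V.toScheme ⟶ Q.toScheme := IsOpenImmersion.lift Q.ι e (by rw [Scheme.Opens.range_ι]; rfl)
  have he' : e' ≫ Q.ι = e := IsOpenImmersion.lift_fac _ _ _
  haveI : Smooth e' := by
    have : Smooth (e' ≫ Q.ι) := by rw [he']; infer_instance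
    haveI h2 : Smooth ((e' ≫ Q.ι) ∣_ Q) :=
      MorphismProperty.of_isPullback (P := @Smooth) (isPullback_morphismRestrict (e' ≫ Q.ι) Q).flip this
    let l : V.toScheme ⟶ ((e' ≫ Q.ι) ⁻¹ᵁ Q).toScheme :=
      IsOpenImmersion.lift ((e' ≫ Q.ι) ⁻¹ᵁ Q).ι (𝟙 _) (by
        rw [Scheme.Opens.range_ι]; rintro _ ⟨v, rfl⟩
        show Q.ι (e' v) ∈ Q
        exact (e' v).2)
    have hl : l ≫ ((e' ≫ Q.ι) ⁻¹ᵁ Q).ι = 𝟙 _ := IsOpenImmersion.lift_fac _ _ _
    haveI : IsOpenImmersion (l ≫ ((e' ≫ Q.ι) ⁻¹ᵁ Q).ι) := by rw [hl]; infer_instance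
    haveI : IsOpenImmersion l := IsOpenImmersion.of_comp l ((e' ≫ Q.ι) ⁻¹ᵁ Q).ι
    have he : e' = l ≫ (e' ≫ Q.ι) ∣_ Q := by
      rw [← cancel_mono Q.ι, Category.assoc, morphismRestrict_ι, reassoc_of% hl]
    rw [he]; infer_instance
  haveI : Surjective e' := by
    refine ⟨fun a => ?_⟩
    obtain ⟨v, hv⟩ : Q.ι a ∈ Set.range e := a.2
    refine ⟨v, Q.ι.isOpenEmbedding.injective ?_⟩
    rw [← Scheme.Hom.comp_apply, he', hv]
  have hsm : Smooth (e' ≫ Q.ι ≫ π) := by
    rw [reassoc_of% he']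
    show Smooth ((V.ι ≫ p₂) ≫ π)
    rw [Category.assoc, ← pullback.condition, ← Category.assoc, ← hq, Category.assoc]
    infer_instance
  haveI := SrcDescent.smooth_of_smooth_comp e' (Q.ι ≫ π) hsm
  have hgQ : g z ∈ Q := ⟨⟨σ z, hxW', by show p₁ (σ z) ∈ W; rw [hσa]; exact ⟨hzW₁, hxW'⟩⟩, by
    show p₂ (σ z) = g z
    rw [← Scheme.Hom.comp_apply, hσ₂]⟩
  have : (⟨g z, hgQ⟩ : Q.toScheme) ∈ Q.ι ⁻¹ᵁ π.smoothLocus := by
    rw [Scheme.Hom.preimage_smoothLocus_eq, Scheme.Hom.smoothLocus_eq_top]; trivial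
  exact this

omit [IsLocallyNoetherian S] in
/-- Extension over an integral normal scheme from a nonempty open. -/
theorem exists_extension_integral {W : Scheme.{u}} [IsIntegral W] (hW : Pi1.IsNormalScheme W) (w : W ⟶ S)
    (O : W.Opens) (hO : genericPoint W ∈ O) (a : O.toScheme ⟶ T) (ha : a ≫ π = O.ι ≫ w) :
    ∃ g : W ⟶ T, g ≫ π = w ∧ O.ι ≫ g = a := by
  have hr : Set.range (W.fromSpecStalk (genericPoint W)) ⊆ Set.range O.ι := by
    rw [Scheme.range_fromSpecStalk, Scheme.Opens.range_ι]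
    exact fun y hy => Specializes.mem_open hy O.2 hO
  let r := IsOpenImmersion.lift O.ι _ hr
  have hrι : r ≫ O.ι = W.fromSpecStalk (genericPoint W) := IsOpenImmersion.lift_fac _ _ _
  let t : Spec W.functionField ⟶ pullback w π := pullback.lift (W.fromSpecStalk (genericPoint W)) (r ≫ a)
    (by rw [Category.assoc, ha, reassoc_of% hrι])
  obtain ⟨σ, hσ, hσt⟩ := SchTorsor.exists_section_of_normal hW (pullback.fst w π) t (pullback.lift_fst _ _ _)
  have hg : (σ ≫ pullback.snd w π) ≫ π = w := by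
    rw [Category.assoc, ← pullback.condition, ← Category.assoc, hσ, Category.id_comp]
  refine ⟨σ ≫ pullback.snd w π, hg, ?_⟩
  haveI : Nonempty O.toScheme := ⟨⟨_, hO⟩⟩
  haveI : IsIntegral O.toScheme := isIntegral_of_isOpenImmersion O.ι
  have e : r ≫ O.ι ≫ σ ≫ pullback.snd w π = r ≫ a := by
    rw [reassoc_of% hrι, reassoc_of% hσt]
    exact pullback.lift_snd _ _ _
  haveI : IsDominant r := by
    refine ⟨dense_iff_inter_open.2 fun U hU ⟨v, hv⟩ => ?_⟩
    refine ⟨⟨genericPoint W, hO⟩, ?_, ?_⟩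
    · obtain ⟨U', hU', rfl⟩ := hU
      exact ((genericPoint_spec W).mem_open_set_iff hU').2 ⟨v.1, trivial, hv⟩
    · obtain ⟨b, hb⟩ : genericPoint W ∈ Set.range (W.fromSpecStalk (genericPoint W)) := by
        rw [Scheme.range_fromSpecStalk]; exact specializes_rfl
      refine ⟨b, O.ι.isOpenEmbedding.injective ?_⟩
      rw [← Scheme.Hom.comp_apply, hrι, hb]; rfl
  exact ext_of_isDominant_of_isSeparated π (by rw [Category.assoc, hg, ha]) r e

/-- Extension from a schematically dense open of the base. -/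
theorem exists_extension (hZ : Pi1.IsNormalScheme Z) {S₀ : S.Opens} (hS₀ : CInt.IsSchematicallyDense S₀)
    (a : (f ⁻¹ᵁ S₀).toScheme ⟶ T) (ha : a ≫ π = (f ⁻¹ᵁ S₀).ι ≫ f) :
    ∃ g : Z ⟶ T, g ≫ π = f ∧ (f ⁻¹ᵁ S₀).ι ≫ g = a := by
  haveI : IsLocallyNoetherian Z := LocallyOfFiniteType.isLocallyNoetherian f
  let O := f ⁻¹ᵁ S₀
  have hd : CInt.IsSchematicallyDense O := SchDenseLib.preimage_of_isLocallyNoetherian f S₀ hS₀
  choose W hzW hW using NormalImm.exists_integral_nbhd hZ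
  have key : ∀ z : Z, ∃ g : (W z).toScheme ⟶ T, g ≫ π = (W z).ι ≫ f ∧
      ((W z).ι ⁻¹ᵁ O).ι ≫ g = ((W z).ι ∣_ O) ≫ a := by
    intro z
    haveI := hW z
    obtain ⟨x, hxW, hxO⟩ := S5435.dense_of_isSchematicallyDense hd (W z) ⟨z, hzW z⟩
    refine exists_extension_integral π (NormalImm.isNormalScheme_open hZ (W z)) ((W z).ι ≫ f) _
      (((genericPoint_spec (W z).toScheme).mem_open_set_iff ((W z).ι ⁻¹ᵁ O).2).2
        ⟨⟨x, hxW⟩, trivial, hxO⟩) _ ?_
    rw [Category.assoc, ha, morphismRestrict_ι_assoc]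
  choose g hg hga using key
  have hcov : TopologicalSpace.IsOpenCover W :=
    eq_top_iff.2 fun z _ => TopologicalSpace.Opens.mem_iSup.2 ⟨z, hzW z⟩
  let 𝒰 := Z.openCoverOfIsOpenCover W hcov
  have hcompat : ∀ x y : Z, pullback.fst (W x).ι (W y).ι ≫ g x = pullback.snd (W x).ι (W y).ι ≫ g y := by
    intro x y
    let c := pullback.fst (W x).ι (W y).ι ≫ (W x).ι
    refine SchDenseLib.hom_ext (SchDenseLib.preimage_of_isLocallyNoetherian c O hd) π _ _ ?_ ?_
    · rw [Category.assoc, Category.assoc, hg, hg]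
      exact pullback.condition_assoc _
    · let A : (c ⁻¹ᵁ O).toScheme ⟶ pullback (W x).ι (W y).ι := (c ⁻¹ᵁ O).ι
      have lift : ∀ (i : Z) (h : (c ⁻¹ᵁ O).toScheme ⟶ (W i).toScheme), h ≫ (W i).ι = A ≫ c →
          h ≫ g i = (c ∣_ O) ≫ a := by
        intro i h hh
        have hr : Set.range h ⊆ Set.range ((W i).ι ⁻¹ᵁ O).ι := by
          rw [Scheme.Opens.range_ι]; rintro _ ⟨b, rfl⟩
          show (W i).ι (h b) ∈ O
          rw [← Scheme.Hom.comp_apply, hh]; exact b.2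
        rw [← IsOpenImmersion.lift_fac _ h hr, Category.assoc, hga, ← Category.assoc]
        congr 1
        rw [← cancel_mono O.ι, Category.assoc, morphismRestrict_ι, IsOpenImmersion.lift_fac_assoc, hh,
          morphismRestrict_ι]
      have e1 := lift x (A ≫ pullback.fst (W x).ι (W y).ι) (Category.assoc _ _ _)
      have e2 := lift y (A ≫ pullback.snd (W x).ι (W y).ι)
        ((Category.assoc _ _ _).trans (congrArg (A ≫ ·) pullback.condition.symm))
      rw [Category.assoc] at e1 e2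
      exact e1.trans e2.symm
  have hgl : ∀ i, (W i).ι ≫ 𝒰.glueMorphisms g hcompat = g i := fun i =>
    Scheme.Cover.ι_glueMorphisms 𝒰 g hcompat i
  refine ⟨𝒰.glueMorphisms g hcompat, 𝒰.hom_ext _ _ fun i => ?_, ?_⟩
  · exact (reassoc_of% (hgl i)) π |>.trans (hg i)
  · refine Scheme.hom_ext_of_forall _ _ fun v => ?_
    let i := O.ι v
    refine ⟨O.ι ⁻¹ᵁ W i, hzW i, ?_⟩
    let h := O.ι ∣_ W i
    have hr : Set.range h ⊆ Set.range ((W i).ι ⁻¹ᵁ O).ι := by
      rw [Scheme.Opens.range_ι]; rintro _ ⟨b, rfl⟩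
      show (W i).ι (h b) ∈ O
      rw [← Scheme.Hom.comp_apply, morphismRestrict_ι, Scheme.Hom.comp_apply]
      exact Subtype.prop _
    have h1 : (O.ι ⁻¹ᵁ W i).ι ≫ O.ι = h ≫ (W i).ι := (morphismRestrict_ι _ _).symm
    rw [reassoc_of% h1, hgl, ← IsOpenImmersion.lift_fac _ h hr, Category.assoc, hga, ← Category.assoc]
    congr 1
    rw [← cancel_mono O.ι, Category.assoc, morphismRestrict_ι, IsOpenImmersion.lift_fac_assoc, h1]

end Groth.Agent.NeronMdl58.SmoothLocusNMP
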