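import Groth.Agent.NMP.Basic

/-!
# A group inherits the mapping property from a surjective pseudo-torsor
-/

set_option autoImplicit false

universe u

open CategoryTheory Limits AlgebraicGeometry MonoidalCategory CartesianMonoidalCategory

open scoped MonObj

namespace Groth.Agent.NeronMdl58

open Groth.Agent.NMP

variable {S : Scheme.{u}} {J G P : Over S} [GrpObj G] {a : AlgGrp.Action G P} (ha : NonAbH1.IsPseudoTorsorSch a)

include ha in
theorem bijective_group_of_torsor [Smooth P.hom] [Surjective P.hom]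
    (hP : ∀ Y : Over S, Smooth Y.hom → Function.Bijective (Restr J P Y))
    (Y : Over S) (hY : Smooth Y.hom) : Function.Bijective (Restr J G Y) := by
  have hinj : ∀ Z : Over S, Smooth Z.hom → Function.Injective (Restr J G Z) := by
    intro Z hZ d₁ d₂ h
    haveI := hZ
    haveI : Smooth (Z ⊗ P).hom := inferInstanceAs (Smooth (pullback.fst Z.hom P.hom ≫ Z.hom))
    haveI : Flat (fst Z P).left := inferInstanceAs (Flat (pullback.fst Z.hom P.hom))
    haveI : LocallyOfFinitePresentation (fst Z P).left :=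
      inferInstanceAs (LocallyOfFinitePresentation (pullback.fst Z.hom P.hom))
    haveI : Surjective (fst Z P).left := inferInstanceAs (Surjective (pullback.fst Z.hom P.hom))
    refine epi_of_cover (fst Z P) (SchTorsor.act_free ha (y := snd Z P) ((hP (Z ⊗ P) inferInstance).1 ?_))
    show fst (Z ⊗ P) J ≫ _ = fst (Z ⊗ P) J ≫ _
    rw [← Category.assoc, ← Category.assoc, comp_lift, comp_lift, ← whiskerRight_fst_assoc,
      ← whiskerRight_fst_assoc]
    rw [show fst Z J ≫ d₁ = fst Z J ≫ d₂ from h]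
  haveI := hY
  refine ⟨hinj Y hY, fun h => ?_⟩
  let π : Y ⊗ P ⟶ Y := fst Y P
  haveI : Smooth π.left := inferInstanceAs (Smooth (pullback.fst Y.hom P.hom))
  haveI : Surjective π.left := inferInstanceAs (Surjective (pullback.fst Y.hom P.hom))
  haveI : Smooth (Y ⊗ P).hom := inferInstanceAs (Smooth (pullback.fst Y.hom P.hom ≫ Y.hom))
  obtain ⟨x, hx⟩ := (hP (Y ⊗ P) inferInstance).2
    (lift ((π ▷ J) ≫ h) (fst (Y ⊗ P) J ≫ snd Y P) ≫ a.act)
  obtain ⟨δ, hδ⟩ := SchTorsor.exists_div ha x (snd Y P)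
  refine exists_of_cover hinj π h δ ?_ ?_
  · refine SchTorsor.act_free ha (y := fst (Y ⊗ P) J ≫ snd Y P) ?_
    rw [← comp_lift, Category.assoc, hδ]
    exact hx
  · intro u v huv
    let σ : (Y ⊗ J) ⊗ P ⟶ (Y ⊗ P) ⊗ J :=
      lift (lift (fst (Y ⊗ J) P ≫ fst Y J) (snd (Y ⊗ J) P)) (fst (Y ⊗ J) P ≫ snd Y J)
    have hσ : σ ≫ (π ▷ J) = fst (Y ⊗ J) P := by
      apply CartesianMonoidalCategory.hom_ext <;> simp [σ, π]
    haveI : Flat (fst (Y ⊗ J) P).left := inferInstanceAs (Flat (pullback.fst (Y ⊗ J).hom P.hom))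
    haveI : LocallyOfFinitePresentation (fst (Y ⊗ J) P).left :=
      inferInstanceAs (LocallyOfFinitePresentation (pullback.fst (Y ⊗ J).hom P.hom))
    haveI : Surjective (fst (Y ⊗ J) P).left := inferInstanceAs (Surjective (pullback.fst (Y ⊗ J).hom P.hom))
    refine epi_of_cover (fst (Y ⊗ J) P) ?_
    rw [← hσ, Category.assoc, huv, Category.assoc]

end Groth.Agent.NeronMdl58
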